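import Cfsg.Agent.H59.AbKernel.Main

/-!
An abelian kernel forces a large two-point stabiliser.
-/

set_option autoImplicit false

open Cfsg
open scoped ComplexConjugate

namespace H59
namespace AbKernel

open MulAction

universe u

variable {G : Type u} {Ω : Type*} [Group G] [Finite G] [MulAction G Ω] [Finite Ω]
variable {a b : Ω} {U : Subgroup G}

set_option maxHeartbeats 1000000 in
open scoped Classical in
/-- In a doubly transitive group with trivial three-point stabilisers, an abelian kernel `U` of a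
point stabiliser, and an odd two-point stabiliser inverted by all swapping elements, the kernel
has at most `2 |H| + 1` elements. -/
theorem card_kernel_le (S : Setup G a b U) :
    Nat.card U ≤ 2 * Nat.card ↥(stabilizer G a ⊓ stabilizer G b) + 1 := by
  haveI : Fintype G := Fintype.ofFinite G
  haveI : Fintype Ω := Fintype.ofFinite Ω
  haveI : Fintype U := Fintype.ofFinite U
  haveI : Fintype ↥(stabilizer G a ⊓ stabilizer G b) := Fintype.ofFinite _
  by_contra hcon
  push Not at hcon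
  obtain ⟨d, hd⟩ : ∃ d, d = Nat.card ↥(stabilizer G a ⊓ stabilizer G b) := ⟨_, rfl⟩
  obtain ⟨q, hq⟩ : ∃ q, q = Nat.card U := ⟨_, rfl⟩
  have hd3 : 3 ≤ d := hd ▸ S.three
  obtain ⟨E, hEcard, hEorth, hEconst, hEW, hEY⟩ := exists_special S (show 2 ≤ Nat.card U by omega)
  have hUcomm : ∀ x y : U, x * y = y * x := fun x y => Subtype.ext (S.comm x x.2 y y.2)
  have hHcomm : ∀ x y : ↥(stabilizer G a ⊓ stabilizer G b), x * y = y * x := fun x y =>
    Subtype.ext (H_comm S x.2 y.2)
  obtain ⟨R, hR⟩ : ∃ R : Finset (IrrCharacter G), R = Finset.univ \ E := ⟨_, rfl⟩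
  have hRm : ∀ χ, χ ∈ R ↔ χ ∉ E := fun χ => by rw [hR]; simp
  -- vanishing
  have hvan : ∀ χ ∈ R, (∑ u : U, conj ((χ : G → ℂ) u)) = 0 ∧
      ∀ h : ↥(stabilizer G a ⊓ stabilizer G b), h ≠ 1 → (χ : G → ℂ) h = 0 := by
    intro χ hχ
    let v : ↥(stabilizer G a ⊓ stabilizer G b) → ℂ := fun h =>
      if h = 1 then ∑ u : U, conj ((χ : G → ℂ) u) else (Nat.card U : ℂ) * conj ((χ : G → ℂ) h)
    have hv : v = 0 := by
      refine eq_zero_of_lin hHcomm fun f => ?_
      have h1 := hEorth χ ((hRm χ).1 hχ) f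
      rw [classInner_pChar S f (H12.irr_isClassFunction χ), mul_eq_zero] at h1
      have h2 := h1.resolve_left (inv_ne_zero (mul_ne_zero (Nat.cast_ne_zero.2 Nat.card_pos.ne')
        (Nat.cast_ne_zero.2 Nat.card_pos.ne')))
      rw [← Finset.add_sum_erase _ _ (Finset.mem_univ 1), ← h2, map_one, Units.val_one, one_mul]
      congr 1
      · simp [v]
      · rw [Finset.mul_sum]
        refine Finset.sum_congr rfl fun h hh => ?_
        simp only [v, if_neg (Finset.mem_erase.1 hh).1]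
        ring
    refine ⟨by simpa [v] using congrFun hv 1, fun h hh => ?_⟩
    have := congrFun hv h
    simp only [v, if_neg hh, Pi.zero_apply, mul_eq_zero, Nat.cast_eq_zero, map_eq_zero] at this
    exact this.resolve_left Nat.card_pos.ne'
  -- multiplicities
  obtain ⟨Θ, hΘ⟩ : ∃ Θ : Finset (IrrCharacter U), Θ = Finset.univ.erase (H12.oneIrr U) := ⟨_, rfl⟩
  have hΘm : ∀ θ, θ ∈ Θ ↔ θ ≠ H12.oneIrr U := fun θ => by rw [hΘ]; simp
  have hΘc : Θ.card + 1 = q := by
    rw [hΘ, Finset.card_erase_add_one (Finset.mem_univ _), Finset.card_univ, card_irr_comm hUcomm, hq]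
  obtain ⟨m, hm⟩ : ∃ m : IrrCharacter G → IrrCharacter U → ℤ,
      ∀ χ θ, m χ θ = (H12.Glauberman.mult U χ θ : ℤ) := ⟨_, fun _ _ => rfl⟩
  have hci : ∀ (χ : IrrCharacter G) (θ : IrrCharacter U), classInner (fun u : U => (χ : G → ℂ) u) (θ : U → ℂ) = ((m χ θ : ℤ) : ℂ) := fun χ θ => by
    rw [H12.Glauberman.classInner_eq_mult, hm, Int.cast_natCast]
  have hcf : ∀ χ : IrrCharacter G, IsClassFunction U (fun u : U => (χ : G → ℂ) u) := fun χ =>
    H12.isClassFunction_res (H12.irr_isClassFunction χ) U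
  have hm1 : ∀ χ ∈ R, m χ (H12.oneIrr U) = 0 := by
    intro χ hχ
    have h1 := hci χ (H12.oneIrr U)
    rw [← H12.conj_classInner, H12.classInner_def] at h1
    simp only [H12.oneIrr_apply, one_mul, (hvan χ hχ).1, mul_zero, map_zero] at h1
    exact_mod_cast h1.symm
  have hdeg : ∀ χ ∈ R, (H12.degree (χ : G → ℂ) : ℤ) = ∑ θ ∈ Θ, m χ θ := by
    intro χ hχ
    have h1 := H12.classFunction_apply_eq_sum (hcf χ) 1
    simp only [Subgroup.coe_one, H12.irr_apply_one, hci] at h1
    rw [← Finset.add_sum_erase _ _ (Finset.mem_univ (H12.oneIrr U)), hm1 χ hχ, Int.cast_zero, zero_mul,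
      zero_add, ← hΘ] at h1
    have h2 : ∀ θ : IrrCharacter U, H12.degree (θ : U → ℂ) = 1 := fun θ => by
      have h3 := H12.irr_apply_one θ
      rw [H12.irr_apply_one_of_comm hUcomm θ] at h3
      exact_mod_cast h3.symm
    simp only [h2, Nat.cast_one, mul_one] at h1
    exact_mod_cast h1
  have hnorm : ∀ χ ∈ R, ∑ u : U, (χ : G → ℂ) u * conj ((χ : G → ℂ) u) =
      (((q : ℤ) * ∑ θ ∈ Θ, m χ θ ^ 2 : ℤ) : ℂ) := by
    intro χ hχ
    rw [H12.sum_mul_conj_eq_card_mul, H12.classInner_eq_sum_mul (hcf χ) (hcf χ), ← hq,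
      ← Finset.add_sum_erase _ _ (Finset.mem_univ (H12.oneIrr U)), hci, hm1 χ hχ, Int.cast_zero, zero_mul,
      zero_add, ← hΘ]
    push_cast
    congr 1
    refine Finset.sum_congr rfl fun θ _ => ?_
    rw [hci, map_intCast]; ring
  obtain ⟨W, hW⟩ : ∃ W : IrrCharacter G → ℤ,
      ∀ χ, W χ = (q : ℤ) * ∑ θ ∈ Θ, m χ θ ^ 2 - (∑ θ ∈ Θ, m χ θ) ^ 2 := ⟨_, fun _ => rfl⟩
  have hWsum : ∀ χ ∈ R, ∑ u ∈ (Finset.univ : Finset U).erase 1, (χ : G → ℂ) u * conj ((χ : G → ℂ) u) =
      ((W χ : ℤ) : ℂ) := by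
    intro χ hχ
    rw [Finset.sum_erase_eq_sub (Finset.mem_univ _), hnorm χ hχ, hW, Subgroup.coe_one, H12.irr_apply_one,
      Complex.conj_natCast, Int.cast_sub, ← hdeg χ hχ]
    push_cast
    ring
  -- columns
  have hcent : ∀ u : G, u ∈ U → u ≠ 1 → Nat.card (Subgroup.centralizer ({u} : Set G)) = q := fun u hu hu1 => by
    rw [centralizer_U S hu hu1, hq]
  have htotal : ∑ χ : IrrCharacter G, ∑ u ∈ (Finset.univ : Finset U).erase 1,
      (χ : G → ℂ) u * conj ((χ : G → ℂ) u) = ((q : ℂ) - 1) * q := by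
    rw [Finset.sum_comm, Finset.sum_congr rfl (g := fun _ => (q : ℂ)) (fun u hu => by
      rw [H12.column_orthogonality, if_pos (IsConj.refl _),
        hcent u u.2 fun e => (Finset.mem_erase.1 hu).1 (Subtype.ext e)]),
      Finset.sum_const, Finset.card_erase_of_mem (Finset.mem_univ _), Finset.card_univ,
      ← Nat.card_eq_fintype_card, ← hq, nsmul_eq_mul, Nat.cast_sub (by omega)]
    simp
  have hWeq : ((q : ℤ) - 1) * ((E.card : ℤ) - 1) + ∑ χ ∈ R, W χ = ((q : ℤ) - 1) * q := by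
    rw [← Finset.sum_sdiff (Finset.subset_univ E), ← hR, hEW, Finset.sum_congr rfl hWsum, ← hq,
      add_comm] at htotal
    exact_mod_cast htotal
  -- the two kinds
  obtain ⟨K, hK⟩ : ∃ K, K = R.filter fun χ => ¬ ∃ c : ℤ, ∀ θ ∈ Θ, m χ θ = c := ⟨_, rfl⟩
  have hKR : K ⊆ R := hK ▸ Finset.filter_subset _ _
  have hcases : ∀ χ ∈ R, (χ ∉ K → (q : ℤ) - 1 ≤ W χ) ∧ (χ ∈ K →
      (d : ℤ) * q - d * d ≤ W χ ∧ (W χ ≤ (d : ℤ) * q - d * d →
        (∑ θ ∈ Θ, m χ θ ^ 2) = d ∧ (∑ θ ∈ Θ, m χ θ) = d)) := by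
    intro χ hχ
    have hne : ∃ θ ∈ Θ, m χ θ ≠ 0 := by
      by_contra h
      push Not at h
      have h1 := hdeg χ hχ
      rw [Finset.sum_eq_zero h] at h1
      have := H12.irr_degree_pos χ
      omega
    have horb : ∀ θ ∈ Θ, ∃ O : Finset (IrrCharacter U), O ⊆ Θ ∧ O.card = d ∧ ∀ x ∈ O, m χ x = m χ θ := by
      intro θ hθ
      obtain ⟨O, hO, hO'⟩ := exists_orbit S θ ((hΘm θ).1 hθ) χ
      exact ⟨O, fun x hx => (hΘm x).2 (hO' x hx).1, hO.trans hd.symm,
        fun x hx => by rw [hm, hm, (hO' x hx).2]⟩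
    have hq1 : (Θ.card : ℤ) + 1 = q := by exact_mod_cast hΘc
    rcases weight_cases Θ (m χ) horb (fun θ _ => by rw [hm]; positivity) hne with ⟨c, hc, hall⟩ | ⟨h1, h2⟩
    · refine ⟨fun _ => ?_, fun hk => absurd (show ∃ c, ∀ θ ∈ Θ, m χ θ = c from ⟨c, hall⟩)
        (Finset.mem_filter.1 (hK ▸ hk : χ ∈ R.filter fun χ => ¬ ∃ c : ℤ, ∀ θ ∈ Θ, m χ θ = c)).2⟩
      rw [hW, Finset.sum_congr rfl (g := fun _ => c ^ 2) (fun θ hθ => by rw [hall θ hθ]),
        Finset.sum_congr rfl (g := fun _ => c) (fun θ hθ => hall θ hθ)]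
      simp only [Finset.sum_const, nsmul_eq_mul]
      rw [show (Θ.card : ℤ) = q - 1 by omega]
      have hc2 : (1 : ℤ) ≤ c ^ 2 := one_le_pow₀ hc
      have : 0 ≤ ((q : ℤ) - 1) * (c ^ 2 - 1) := mul_nonneg (by omega) (by omega)
      nlinarith
    · rw [hq1, ← hW] at h1 h2
      rw [show (d : ℤ) * ((Θ.card : ℤ) - d) + d = d * q - d * d by rw [← hq1]; ring] at h1 h2
      refine ⟨fun hk => ?_, fun _ => ⟨h1, h2⟩⟩
      have : 0 ≤ ((d : ℤ) - 1) * ((q : ℤ) - d - 1) := mul_nonneg (by omega) (by omega)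
      linarith
  have hKconst : ∀ χ : IrrCharacter G, χ ∉ K → ∀ u ∈ U, u ≠ 1 → ∀ u' ∈ U, u' ≠ 1 →
      (χ : G → ℂ) u = (χ : G → ℂ) u' := by
    intro χ hχ u hu hu1 u' hu' hu1'
    by_cases hE : χ ∈ E
    · obtain ⟨e, he⟩ := hEconst χ hE
      rw [he u hu hu1, he u' hu' hu1']
    obtain ⟨c, hc⟩ : ∃ c : ℤ, ∀ θ ∈ Θ, m χ θ = c := by
      by_contra h
      exact hχ (hK ▸ Finset.mem_filter.2 ⟨(hRm χ).2 hE, h⟩)
    have hval : ∀ x : U, x ≠ 1 → (χ : G → ℂ) x = -(c : ℂ) := by
      intro x hx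
      have h1 := H12.classFunction_apply_eq_sum (hcf χ) x
      simp only [hci] at h1
      rw [h1, ← Finset.add_sum_erase _ _ (Finset.mem_univ (H12.oneIrr U)), hm1 χ ((hRm χ).2 hE), Int.cast_zero,
        zero_mul, zero_add, ← hΘ, Finset.sum_congr rfl (g := fun θ : IrrCharacter U => (c : ℂ) * (θ : U → ℂ) x)
          (fun θ hθ => by rw [hc θ hθ]), ← Finset.mul_sum]
      have h2 := H12.regular_eq_sum (G := U) x
      simp only [H12.irr_apply_one_of_comm hUcomm, one_mul, if_neg hx] at h2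
      rw [← Finset.add_sum_erase _ _ (Finset.mem_univ (H12.oneIrr U)), ← hΘ, H12.oneIrr_apply] at h2
      linear_combination (c : ℂ) * h2
    exact (hval ⟨u, hu⟩ fun e => hu1 (congrArg Subtype.val e)).trans
      (hval ⟨u', hu'⟩ fun e => hu1' (congrArg Subtype.val e)).symm
  obtain ⟨r, hrdef⟩ : ∃ r, r = (meetClasses U).card := ⟨_, rfl⟩
  have hrd := card_uClasses S
  rw [← hrdef, ← hd, ← hq] at hrd
  have hr3 : 2 < r := by
    by_contra h
    have := Nat.mul_le_mul_right d (not_lt.1 h)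
    omega
  -- exceptional characters are at least as many as the classes
  have hrk : r ≤ K.card := by
    have hsel : ∀ C : {C // C ∈ meetClasses U}, ∃ g : G, (g ∈ U ∧ g ≠ 1) ∧ ConjClasses.mk g = C.1 := fun C =>
      mem_meetClasses.1 C.2
    choose rep hrep hrepC using hsel
    have hrepne : ∀ C C', C ≠ C' → ¬ IsConj (rep C) (rep C') := fun C C' hne h => hne (Subtype.ext (by
      rw [← hrepC C, ← hrepC C']; exact ConjClasses.mk_eq_mk_iff_isConj.2 h))
    have hrep1 : ∀ C, ¬ IsConj (rep C) (1 : G) := fun C h => (hrep C).2 (by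
      obtain ⟨t, ht⟩ := isConj_iff.1 h.symm
      simpa using ht.symm)
    obtain ⟨C₀⟩ : Nonempty {C // C ∈ meetClasses U} := by
      rw [← Fintype.card_pos_iff, Fintype.card_coe, ← hrdef]; omega
    have hKne : K.Nonempty := by
      by_contra h
      rw [Finset.not_nonempty_iff_eq_empty] at h
      have : (meetClasses U).card ≤ 1 := Finset.card_le_one.2 fun C hC C' hC' => by
        by_contra hne
        refine hrepne ⟨C, hC⟩ ⟨C', hC'⟩ (fun e => hne (congrArg Subtype.val e))
          ((H12.isConj_iff_irr _ _).2 fun χ => hKconst χ (by rw [h]; exact Finset.notMem_empty _) _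
            (hrep _).1 (hrep _).2 _ (hrep _).1 (hrep _).2)
      omega
    let v : {C // C ∈ meetClasses U} → ({χ // χ ∈ K} → ℂ) := fun C χ =>
      if C = C₀ then (χ.1 : G → ℂ) 1 else (χ.1 : G → ℂ) (rep C) - (χ.1 : G → ℂ) (rep C₀)
    have hli : LinearIndependent ℂ v := by
      rw [Fintype.linearIndependent_iff]
      intro g hg
      let F : IrrCharacter G → ℂ := fun χ => g C₀ * (χ : G → ℂ) 1 +
        ∑ C ∈ Finset.univ.erase C₀, g C * ((χ : G → ℂ) (rep C) - (χ : G → ℂ) (rep C₀))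
      have hFK : ∀ χ ∈ K, F χ = 0 := fun χ hχ => by
        have h1 := congrFun hg ⟨χ, hχ⟩
        rw [Finset.sum_apply, ← Finset.add_sum_erase _ _ (Finset.mem_univ C₀)] at h1
        simp only [Pi.smul_apply, smul_eq_mul, v, if_pos, Pi.zero_apply] at h1
        rw [← h1]
        refine congrArg (_ + ·) (Finset.sum_congr rfl fun C hC => ?_)
        rw [if_neg (Finset.mem_erase.1 hC).1]
      have hFout : ∀ χ, χ ∉ K → F χ = g C₀ * (χ : G → ℂ) 1 := fun χ hχ => by
        simp only [F]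
        rw [Finset.sum_eq_zero fun C _ => by
          rw [hKconst χ hχ _ (hrep C).1 (hrep C).2 _ (hrep C₀).1 (hrep C₀).2, sub_self, mul_zero], add_zero]
      have hdot : ∀ x : G, ∑ χ, F χ * conj ((χ : G → ℂ) x) =
          g C₀ * (if IsConj (1 : G) x then (Nat.card (Subgroup.centralizer ({1} : Set G)) : ℂ) else 0) +
          ∑ C ∈ Finset.univ.erase C₀, g C *
            ((if IsConj (rep C) x then (Nat.card (Subgroup.centralizer ({rep C} : Set G)) : ℂ) else 0) -
             (if IsConj (rep C₀) x then (Nat.card (Subgroup.centralizer ({rep C₀} : Set G)) : ℂ) else 0)) := by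
        intro x
        rw [← H12.column_orthogonality, ← H12.column_orthogonality, Finset.mul_sum]
        simp only [← H12.column_orthogonality, ← Finset.sum_sub_distrib, Finset.mul_sum]
        rw [Finset.sum_comm, ← Finset.sum_add_distrib]
        refine Finset.sum_congr rfl fun χ _ => ?_
        simp only [F, add_mul, Finset.sum_mul]
        congr 1
        · ring
        · exact Finset.sum_congr rfl fun C _ => by ring
      have hg0 : g C₀ = 0 := by
        have h1 := hdot 1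
        rw [if_pos (IsConj.refl 1), Finset.sum_eq_zero (s := Finset.univ.erase C₀) (fun C _ => by
          rw [if_neg (hrep1 C), if_neg (hrep1 C₀), sub_self, mul_zero]), add_zero,
          ← Finset.sum_sdiff (Finset.subset_univ K), Finset.sum_eq_zero (s := K) (fun χ hχ => by
            rw [hFK χ hχ, zero_mul]), add_zero,
          Finset.sum_congr rfl (g := fun χ : IrrCharacter G => g C₀ * ((χ : G → ℂ) 1 * conj ((χ : G → ℂ) 1)))
            (fun χ hχ => by rw [hFout χ (Finset.mem_sdiff.1 hχ).2, mul_assoc]), ← Finset.mul_sum] at h1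
        by_contra hne
        have h2 := mul_left_cancel₀ hne h1
        have h3 := H12.column_orthogonality (1 : G) 1
        rw [if_pos (IsConj.refl 1), ← h2, ← Finset.sum_sdiff (Finset.subset_univ K), add_eq_left] at h3
        have h4 : ∀ χ : IrrCharacter G, (χ : G → ℂ) 1 * conj ((χ : G → ℂ) 1) =
            ((H12.degree (χ : G → ℂ) ^ 2 : ℕ) : ℂ) := fun χ => by
          rw [H12.irr_apply_one, Complex.conj_natCast, Nat.cast_pow, sq]
        simp only [h4, ← Nat.cast_sum, Nat.cast_eq_zero, Finset.sum_eq_zero_iff] at h3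
        obtain ⟨χ, hχ⟩ := hKne
        exact (H12.irr_degree_pos χ).ne' ((pow_eq_zero_iff two_ne_zero).1 (h3 χ hχ))
      intro C
      by_cases hC : C = C₀
      · rw [hC, hg0]
      have hF0 : ∀ χ, F χ = 0 := fun χ => by
        by_cases h : χ ∈ K
        · exact hFK χ h
        · rw [hFout χ h, hg0, zero_mul]
      have h1 := hdot (rep C)
      rw [Finset.sum_eq_zero (s := (Finset.univ : Finset (IrrCharacter G))) (fun χ _ => by rw [hF0 χ, zero_mul]),
        hg0, zero_mul, zero_add,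
        Finset.sum_eq_single C (fun C' _ hne => by
          rw [if_neg (hrepne C' C hne), if_neg (hrepne C₀ C (Ne.symm hC)), sub_self, mul_zero])
          (fun h => absurd (Finset.mem_erase.2 ⟨hC, Finset.mem_univ C⟩) h),
        if_pos (IsConj.refl _), if_neg (hrepne C₀ C (Ne.symm hC)), sub_zero,
        hcent _ (hrep C).1 (hrep C).2] at h1
      exact (mul_eq_zero.1 h1.symm).resolve_right (Nat.cast_ne_zero.2 (by omega))
    have h5 := hli.fintype_card_le_finrank
    rw [Module.finrank_pi, Fintype.card_coe, Fintype.card_coe] at h5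
    omega
  -- the count
  have hclasses := card_classes_ge S (show 2 ≤ Nat.card U by omega)
  rw [← H12.card_irrCharacter, Nat.card_eq_fintype_card, ← hrdef] at hclasses
  have hRc : R.card + E.card = Fintype.card (IrrCharacter G) := by
    rw [hR, Finset.card_sdiff_add_card_eq_card (Finset.subset_univ E), Finset.card_univ]
  have hCH := card_hClasses S
  rw [← hd] at hCH hEcard
  have hM := card_fpfClasses_ge S (show 2 * Nat.card ↥(stabilizer G a ⊓ stabilizer G b) + 1 < Nat.card U by omega)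
  rw [← hd] at hM
  obtain ⟨χ, hχK, hχW⟩ : ∃ χ ∈ K, W χ ≤ (d : ℤ) * q - d * d := by
    by_contra h
    push Not at h
    have h1 : (K.card : ℤ) * ((d : ℤ) * q - d * d + 1) ≤ ∑ χ ∈ K, W χ := by
      rw [← nsmul_eq_mul]
      exact Finset.card_nsmul_le_sum _ _ _ fun χ hχ => h χ hχ
    have h2 : (((R \ K).card : ℕ) : ℤ) * ((q : ℤ) - 1) ≤ ∑ χ ∈ R \ K, W χ := by
      rw [← nsmul_eq_mul]
      exact Finset.card_nsmul_le_sum _ _ _ fun χ hχ =>
        (hcases χ (Finset.mem_sdiff.1 hχ).1).1 (Finset.mem_sdiff.1 hχ).2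
    rw [← Finset.sum_sdiff hKR] at hWeq
    rw [Finset.card_sdiff_of_subset hKR, Nat.cast_sub (Finset.card_le_card hKR)] at h2
    have hrd' : (r : ℤ) * d = q - 1 := by
      rw [← Nat.cast_mul, hrd, Nat.cast_sub (by omega)]; simp
    have h3 : 0 ≤ ((K.card : ℤ) - r) * ((d : ℤ) * q - d * d - (q - 1)) := by
      refine mul_nonneg (by omega) ?_
      have : 0 ≤ ((d : ℤ) - 1) * ((q : ℤ) - d - 1) := mul_nonneg (by omega) (by omega)
      linarith
    have h4 : (r : ℤ) * ((d : ℤ) * q - d * d) = ((q : ℤ) - 1) * (q - d) := by rw [← hrd']; ring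
    have h5 : 0 ≤ ((q : ℤ) - 1) * ((R.card : ℤ) + E.card - 1 - r - d) := mul_nonneg (by omega) (by omega)
    have h6 : (0 : ℤ) < K.card := by omega
    linarith
  obtain ⟨hsq, hsum⟩ := ((hcases χ (hKR hχK)).2 hχK).2 hχW
  have hχR := hKR hχK
  -- the square of the exceptional character
  let Y : G → ℂ := fun g => (χ : G → ℂ) g * conj ((χ : G → ℂ) g)
  have hYch : IsCharacter G Y := H12.IsCharacter.mul (H12.isCharacter_irr χ)
    (H12.isCharacter_of_isIrrCharacter (H12.isIrrCharacter_conj χ.2))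
  have hYcf := H12.IsCharacter.isClassFunction hYch
  have hPY : ∀ f, classInner (pChar S f) Y = 1 := by
    intro f
    rw [classInner_pChar S f hYcf, Finset.sum_eq_zero (s := (Finset.univ : Finset _).erase 1) (fun h hh => by
      show _ * conj ((χ : G → ℂ) h * conj ((χ : G → ℂ) h)) = 0
      rw [(hvan χ hχR).2 h (Finset.mem_erase.1 hh).1, zero_mul, map_zero, mul_zero]), mul_zero, add_zero]
    have h1 : ∑ u : U, conj (Y u) = (((q : ℤ) * d : ℤ) : ℂ) := by
      rw [← map_sum, hnorm χ hχR, hsq, map_intCast]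
    rw [h1, ← hq, ← hd]
    push_cast
    exact inv_mul_cancel₀ (mul_ne_zero (Nat.cast_ne_zero.2 (by omega)) (Nat.cast_ne_zero.2 (by omega)))
  choose k hk using fun ψ : IrrCharacter G => H12.IsCharacter.classInner_nat hYch (H12.isCharacter_irr ψ)
  have hk1 : k (H12.oneIrr G) = 1 := by
    have h : classInner Y (H12.oneIrr G : G → ℂ) = 1 := by
      rw [← H12.classInner_irr_self χ, H12.classInner_def, H12.classInner_def]
      simp only [Y, H12.oneIrr_apply, map_one, mul_one]
    rw [hk] at h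
    exact_mod_cast h
  have hle := hEY Y hYcf hPY k hk hk1.ge
  have htot := H12.classFunction_apply_eq_sum hYcf 1
  have hY1 : Y 1 = ((d * d : ℕ) : ℂ) := by
    show (χ : G → ℂ) 1 * conj ((χ : G → ℂ) 1) = _
    rw [H12.irr_apply_one, Complex.conj_natCast, ← Nat.cast_mul]
    have : H12.degree (χ : G → ℂ) = d := by
      have := hdeg χ hχR
      rw [hsum] at this
      exact_mod_cast this
    rw [this]
  simp only [hk, H12.irr_apply_one, hY1] at htot
  have htot' : d * d = ∑ ψ : IrrCharacter G, k ψ * H12.degree (ψ : G → ℂ) := by exact_mod_cast htot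
  have hsub := Finset.sum_le_sum_of_subset (f := fun ψ : IrrCharacter G => k ψ * H12.degree (ψ : G → ℂ))
    (Finset.subset_univ E)
  rw [← hq] at hle
  have hq2 : 2 * d + 2 ≤ q := by omega
  obtain ⟨l, hl⟩ : ∃ l, E.card = l + 2 := ⟨E.card - 2, by omega⟩
  rw [hl, Nat.add_sub_cancel] at hle
  have h9 : l * (2 * d + 3) ≤ l * (q + 1) := Nat.mul_le_mul_left _ (by omega)
  have hl2 : d = 2 * l + 1 := by omega
  subst hl2
  nlinarith

end AbKernel
end H59
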