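import Cfsg.Agent.H59.AbKernel.Setup
import Cfsg.Agent.H12.Induction
import Cfsg.Agent.H12.Linear

/-!
The characters induced from the linear characters of a point stabiliser.
-/

set_option autoImplicit false

open Cfsg
open scoped ComplexConjugate

namespace H59
namespace AbKernel

open MulAction

variable {G Ω : Type*} [Group G] [Fintype G] [MulAction G Ω] [Fintype Ω]
variable {a b : Ω} {U : Subgroup G} (S : Setup G a b U)

include S

theorem pf_unique {l : stabilizer G a} : ∃ h : ↥(stabilizer G a ⊓ stabilizer G b),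
    ∃ u ∈ U, (l : G) = u * h ∧ ∀ u' ∈ U, ∀ h' : ↥(stabilizer G a ⊓ stabilizer G b),
      (l : G) = u' * h' → h' = h := by
  obtain ⟨u, hu, h, hh, e⟩ := exists_factor S l.2
  exact ⟨⟨h, hh⟩, u, hu, e, fun u' hu' h' e' =>
    Subtype.ext (factor_unique S hu' hu h'.2 hh (e'.symm.trans e)).2⟩

/-- the projection of the point stabiliser onto the two-point stabiliser -/
noncomputable def proj : stabilizer G a →* ↥(stabilizer G a ⊓ stabilizer G b) :=
  MonoidHom.mk' (fun l => (pf_unique S (l := l)).choose) (by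
    intro l l'
    obtain ⟨u, hu, e, -⟩ := (pf_unique S (l := l)).choose_spec
    obtain ⟨u', hu', e', -⟩ := (pf_unique S (l := l')).choose_spec
    obtain ⟨-, -, -, h2⟩ := (pf_unique S (l := l * l')).choose_spec
    obtain ⟨h, hh⟩ : ∃ h, h = (pf_unique S (l := l)).choose := ⟨_, rfl⟩
    obtain ⟨h', hh'⟩ : ∃ h', h' = (pf_unique S (l := l')).choose := ⟨_, rfl⟩
    rw [← hh] at e; rw [← hh'] at e'
    rw [← hh, ← hh']
    refine (h2 (u * ((h : G) * u' * (h : G)⁻¹)) (U.mul_mem hu (S.conj h h.2.1 u' hu')) (h * h') ?_).symm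
    rw [Subgroup.coe_mul, Subgroup.coe_mul, e, e']
    group)

theorem proj_eq {l : stabilizer G a} {u : G} (hu : u ∈ U) (h : ↥(stabilizer G a ⊓ stabilizer G b))
    (e : (l : G) = u * h) : proj S l = h := by
  obtain ⟨-, -, -, h2⟩ := (pf_unique S (l := l)).choose_spec
  exact (h2 u hu h e).symm

theorem proj_U {l : stabilizer G a} (hl : (l : G) ∈ U) : proj S l = 1 :=
  proj_eq S hl 1 (by simp)

theorem proj_H {l : stabilizer G a} (hl : (l : G) ∈ stabilizer G a ⊓ stabilizer G b) :
    proj S l = ⟨l, hl⟩ :=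
  proj_eq S U.one_mem _ (by simp)

/-- a sum over the point stabiliser of a function of class type -/
theorem sum_stab (F : G → ℂ)
    (hF : ∀ v ∈ U, ∀ h ∈ stabilizer G a ⊓ stabilizer G b, h ≠ 1 → F (v * h * v⁻¹) = F h)
    [Fintype (stabilizer G a)] [Fintype U] [Fintype ↥(stabilizer G a ⊓ stabilizer G b)]
    [DecidableEq ↥(stabilizer G a ⊓ stabilizer G b)] :
    ∑ l : stabilizer G a, F l = (∑ u : U, F u) + (Nat.card U : ℂ) *
      ∑ h ∈ (Finset.univ : Finset ↥(stabilizer G a ⊓ stabilizer G b)).erase 1, F h := by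
  let f : U × ↥(stabilizer G a ⊓ stabilizer G b) → stabilizer G a := fun p =>
    ⟨(p.1 : G) * p.2, mul_mem (S.le p.1.2) p.2.2.1⟩
  have hf : Function.Bijective f := by
    refine ⟨?_, ?_⟩
    · rintro ⟨⟨u, hu⟩, ⟨h, hh⟩⟩ ⟨⟨u', hu'⟩, ⟨h', hh'⟩⟩ e
      obtain ⟨rfl, rfl⟩ := factor_unique S hu hu' hh hh' (congrArg Subtype.val e)
      rfl
    · rintro ⟨l, hl⟩
      obtain ⟨u, hu, h, hh, rfl⟩ := exists_factor S hl
      exact ⟨⟨⟨u, hu⟩, ⟨h, hh⟩⟩, rfl⟩
  rw [← Fintype.sum_bijective f hf (fun p => F ((p.1 : G) * p.2)) (fun l => F l) (fun p => rfl),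
    Fintype.sum_prod_type, Finset.sum_comm, ← Finset.add_sum_erase _ _ (Finset.mem_univ 1)]
  congr 1
  · simp
  · rw [Finset.mul_sum]
    refine Finset.sum_congr rfl fun h hh => ?_
    have h1 : (h : G) ≠ 1 := fun e => (Finset.mem_erase.1 hh).1 (Subtype.ext e)
    rw [Finset.sum_congr rfl (g := fun _ => F h) (fun u _ => ?_), Finset.sum_const, Finset.card_univ,
      nsmul_eq_mul, ← Nat.card_eq_fintype_card]
    obtain ⟨v, hv, e⟩ := exists_conj S h.2 h1 u.2
    rw [← e, hF v hv h h.2 h1]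

/-- the induced character of a linear character -/
noncomputable def pChar (f : ↥(stabilizer G a ⊓ stabilizer G b) →* ℂˣ) : G → ℂ :=
  indFun (stabilizer G a) fun l => ((f.comp (proj S)) l : ℂ)

theorem pChar_isCharacter (f : ↥(stabilizer G a ⊓ stabilizer G b) →* ℂˣ) :
    IsCharacter G (pChar S f) :=
  H12.IsCharacter.indFun (H12.isCharacter_monoidHom (f.comp (proj S)))

theorem pChar_one (f : ↥(stabilizer G a ⊓ stabilizer G b) →* ℂˣ) :
    pChar S f 1 = ((Nat.card U + 1 : ℕ) : ℂ) := by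
  haveI := isPretransitive_of_is_two_pretransitive (G := G) (α := Ω) (h2 := S.h2)
  rw [pChar, H12.indFun_one, index_stabilizer_of_transitive, card_points S]
  simp

open scoped Classical in
theorem sum_coset (F : G → ℂ) (c : Ω) (hF : ∀ y : G, y • a ≠ c → F y = 0)
    {w : G} (hw : w • a = c) [Fintype (stabilizer G a)] :
    ∑ y : G, F y = ∑ l : stabilizer G a, F (w * l) := by
  rw [← Finset.sum_subset (Finset.subset_univ ((Finset.univ : Finset (stabilizer G a)).image fun l : stabilizer G a => w * (l : G))),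
    Finset.sum_image]
  · intro l _ l' _ e; exact Subtype.ext (mul_left_cancel e)
  · intro y _ hy
    refine hF y fun e => hy ?_
    exact Finset.mem_image.2 ⟨⟨w⁻¹ * y, by rw [mem_stabilizer_iff, mul_smul, e, ← hw, inv_smul_smul]⟩,
      Finset.mem_univ _, mul_inv_cancel_left w y⟩

open scoped Classical in
theorem pChar_U (f : ↥(stabilizer G a ⊓ stabilizer G b) →* ℂˣ) {u : G} (hu : u ∈ U) (hu1 : u ≠ 1) :
    pChar S f u = 1 := by
  rw [pChar, H12.indFun_apply, sum_coset S _ a (fun y hy => ?_) (one_smul G a),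
    Finset.sum_congr rfl (g := fun _ => (1 : ℂ)) (fun l _ => ?_)]
  · rw [Finset.sum_const, Finset.card_univ, nsmul_eq_mul, mul_one, ← Nat.card_eq_fintype_card,
      inv_mul_cancel₀ (Nat.cast_ne_zero.2 Nat.card_pos.ne')]
  · have hm : (1 * (l : G))⁻¹ * u * (1 * l) ∈ U := by
      have := S.conj (l : G)⁻¹ ((stabilizer G a).inv_mem l.2) u hu
      simpa using this
    rw [H12.extendByZero_mk _ _ (S.le hm), MonoidHom.comp_apply, proj_U S hm, map_one, Units.val_one]
  · refine H12.extendByZero_of_notMem _ _ fun h => hy (fix_only S hu hu1 ?_)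
    rw [mem_stabilizer_iff, mul_smul, mul_smul, inv_smul_eq_iff] at h
    exact h

open scoped Classical in
theorem pChar_H (f : ↥(stabilizer G a ⊓ stabilizer G b) →* ℂˣ)
    (h : ↥(stabilizer G a ⊓ stabilizer G b)) (h1 : h ≠ 1) :
    pChar S f h = (f h : ℂ) + (f h⁻¹ : ℂ) := by
  obtain ⟨w, wa, wb⟩ := exists_swap S S.ne
  have hne : (h : G) ≠ 1 := fun e => h1 (Subtype.ext e)
  let μ : stabilizer G a → ℂ := fun l => ((f.comp (proj S)) l : ℂ)
  let F : G → ℂ := fun y => extendByZero (stabilizer G a) μ (y⁻¹ * h * y)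
  have hz : ∀ y : G, y • a ≠ a → y • a ≠ b → F y = 0 := fun y ha hb => by
    refine H12.extendByZero_of_notMem _ _ fun hm => ?_
    rw [mem_stabilizer_iff, mul_smul, mul_smul, inv_smul_eq_iff] at hm
    rcases fix_H S h.2 hne hm with e | e
    exacts [ha e, hb e]
  have hval : ∀ (g : G) (k : ↥(stabilizer G a ⊓ stabilizer G b)), g⁻¹ * h * g = k →
      ∀ l : stabilizer G a, F (g * l) = (f k : ℂ) := by
    intro g k e l
    have hm : (g * (l : G))⁻¹ * h * (g * l) = (((l⁻¹ : stabilizer G a) * ⟨k, k.2.1⟩ * l : stabilizer G a) : G) := by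
      show _ = (l : G)⁻¹ * k * l
      rw [← e]; group
    show extendByZero _ μ _ = _
    rw [hm, H12.extendByZero_coe]
    show ((f.comp (proj S)) (l⁻¹ * ⟨k, k.2.1⟩ * l) : ℂ) = _
    rw [map_mul, map_mul, map_inv, mul_comm ((f.comp (proj S)) l)⁻¹, mul_assoc, inv_mul_cancel, mul_one,
      MonoidHom.comp_apply, proj_H S (l := ⟨k, k.2.1⟩) k.2]
  rw [pChar, H12.indFun_apply]
  have hsplit : ∑ y : G, F y = (∑ y : G, if y • a = a then F y else 0) + ∑ y : G, if y • a = b then F y else 0 := by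
    rw [← Finset.sum_add_distrib]
    refine Finset.sum_congr rfl fun y _ => ?_
    by_cases ha : y • a = a
    · rw [if_pos ha, if_neg (fun e => S.ne (ha.symm.trans e)), add_zero]
    by_cases hb : y • a = b
    · rw [if_neg ha, if_pos hb, zero_add]
    rw [if_neg ha, if_neg hb, add_zero, hz y ha hb]
  change _ * ∑ y : G, F y = _
  have h_a : ∀ l : stabilizer G a,
      (if (1 * (l : G)) • a = a then F (1 * l) else 0) = (f h : ℂ) := fun l => by
    rw [if_pos (by rw [one_mul]; exact l.2), hval 1 h (by group) l]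
  have h_b : ∀ l : stabilizer G a,
      (if (w * (l : G)) • a = b then F (w * l) else 0) = (f h⁻¹ : ℂ) := fun l => by
    rw [if_pos (by rw [mul_smul, show (l : G) • a = a from l.2, wa]), hval w h⁻¹ ?_ l]
    rw [inv_eq_of_mul_eq_one_right (S.swap w wa wb), Subgroup.coe_inv, ← inverted S wa wb h.2,
      inv_eq_of_mul_eq_one_right (S.swap w wa wb)]
  rw [hsplit, sum_coset S _ a (fun y hy => if_neg hy) (one_smul G a),
    sum_coset S _ b (fun y hy => if_neg hy) wa]
  simp only [h_a, h_b, Finset.sum_const, Finset.card_univ, nsmul_eq_mul]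
  rw [← mul_add, ← Nat.card_eq_fintype_card, ← mul_assoc,
    inv_mul_cancel₀ (Nat.cast_ne_zero.2 Nat.card_pos.ne'), one_mul]

/-- inner products with induced characters -/
theorem classInner_pChar (f : ↥(stabilizer G a ⊓ stabilizer G b) →* ℂˣ) {χ : G → ℂ}
    (hχ : IsClassFunction G χ) [Fintype U] [Fintype ↥(stabilizer G a ⊓ stabilizer G b)]
    [DecidableEq ↥(stabilizer G a ⊓ stabilizer G b)] :
    classInner (pChar S f) χ = ((Nat.card U : ℂ) * Nat.card ↥(stabilizer G a ⊓ stabilizer G b))⁻¹ *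
      ((∑ u : U, conj (χ u)) + (Nat.card U : ℂ) *
        ∑ h ∈ (Finset.univ : Finset ↥(stabilizer G a ⊓ stabilizer G b)).erase 1, (f h : ℂ) * conj (χ h)) := by
  classical
  rw [pChar, H12.classInner_indFun _ _ hχ, H12.classInner_def, card_stab S, Nat.cast_mul]
  congr 1
  let F : G → ℂ := fun g => extendByZero (stabilizer G a) (fun l => ((f.comp (proj S)) l : ℂ)) g * conj (χ g)
  have hF : ∀ l : stabilizer G a, F l = ((f.comp (proj S)) l : ℂ) * conj (χ l) := fun l => by
    simp only [F, H12.extendByZero_coe]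
  rw [← Finset.sum_congr rfl (fun l _ => hF l), sum_stab S F ?_]
  · congr 1
    · refine Finset.sum_congr rfl fun u _ => ?_
      have := hF ⟨u, S.le u.2⟩
      rw [show F u = _ from this, MonoidHom.comp_apply, proj_U S (l := ⟨(u : G), S.le u.2⟩) u.2, map_one,
        Units.val_one, one_mul]
    · congr 1
      refine Finset.sum_congr rfl fun h _ => ?_
      have := hF ⟨h, h.2.1⟩
      rw [show F h = _ from this, MonoidHom.comp_apply, proj_H S (l := ⟨(h : G), h.2.1⟩) h.2]
  · intro v hv h hh _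
    have h1 := hF ⟨h, hh.1⟩
    have h2 := hF (⟨v, S.le hv⟩ * ⟨h, hh.1⟩ * ⟨v, S.le hv⟩⁻¹)
    refine h2.trans (Eq.trans ?_ h1.symm)
    rw [map_mul, map_mul, map_inv]
    simp only [Subgroup.coe_mul, Subgroup.coe_inv, mul_inv_cancel_comm]
    rw [hχ]

end AbKernel
end H59
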