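import Cfsg.Agent.H59.AbKernel.Count

/-!
Conjugacy classes.
-/

set_option autoImplicit false

namespace H59
namespace AbKernel

open MulAction

variable {G Ω : Type*} [Group G] [Fintype G] [MulAction G Ω] [Fintype Ω] [DecidableEq Ω]

/-- the classes meeting a subgroup outside the identity -/
noncomputable def meetClasses {G : Type*} [Group G] [Fintype G] (K : Subgroup G) :
    Finset (ConjClasses G) := by
  classical
  exact (Finset.univ.filter fun g : G => g ∈ K ∧ g ≠ 1).image ConjClasses.mk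

omit [MulAction G Ω] [Fintype Ω] [DecidableEq Ω] in
theorem mem_meetClasses {K : Subgroup G} {C : ConjClasses G} :
    C ∈ meetClasses K ↔ ∃ g : G, (g ∈ K ∧ g ≠ 1) ∧ ConjClasses.mk g = C := by
  simp [meetClasses]

omit [MulAction G Ω] [Fintype Ω] [DecidableEq Ω] in
open scoped Classical in
/-- all classes meeting `K` do so in `m` elements -/
theorem card_meetClasses_mul {K : Subgroup G} {m : ℕ}
    (h : ∀ g₀ ∈ K, g₀ ≠ 1 → (Finset.univ.filter fun g : G => (g ∈ K ∧ g ≠ 1) ∧ IsConj g₀ g).card = m) :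
    (meetClasses K).card * m = Nat.card K - 1 := by
  have h1 : (Finset.univ.filter fun g : G => g ∈ K ∧ g ≠ 1).card = Nat.card K - 1 := by
    rw [show (Finset.univ.filter fun g : G => g ∈ K ∧ g ≠ 1) =
        (Finset.univ.filter fun g : G => g ∈ K).erase 1 by ext; simp [and_comm],
      Finset.card_erase_of_mem (by simp [K.one_mem]), Nat.card_eq_fintype_card, Fintype.card_subtype]
  rw [← h1, Finset.card_eq_sum_card_fiberwise (f := ConjClasses.mk) (t := meetClasses K) (fun g hg => by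
    exact mem_meetClasses.2 ⟨g, (Finset.mem_filter.1 hg).2, rfl⟩), Finset.sum_const_nat]
  intro C hC
  obtain ⟨g₀, ⟨hK, hne⟩, rfl⟩ := mem_meetClasses.1 hC
  rw [← h g₀ hK hne, Finset.filter_filter]
  congr 1
  ext g
  simp only [Finset.mem_filter, Finset.mem_univ, true_and, ConjClasses.mk_eq_mk_iff_isConj]
  exact and_congr_right fun _ => isConj_comm

variable {a b : Ω} {U : Subgroup G} (S : Setup G a b U)

include S

open scoped Classical in
theorem card_uClasses :
    (meetClasses U).card * Nat.card ↥(stabilizer G a ⊓ stabilizer G b) = Nat.card U - 1 := by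
  refine card_meetClasses_mul fun u hu hu1 => ?_
  rw [← Fintype.card_subtype, ← Nat.card_eq_fintype_card]
  refine (Nat.card_eq_of_bijective (fun h : ↥(stabilizer G a ⊓ stabilizer G b) =>
    (⟨(h : G) * u * (h : G)⁻¹, ⟨S.conj h h.2.1 u hu, fun e => hu1 (conj_eq_one_iff.1 e)⟩,
      isConj_iff.2 ⟨h, rfl⟩⟩ : {g : G // (g ∈ U ∧ g ≠ 1) ∧ IsConj u g})) ⟨?_, ?_⟩).symm
  · intro h h' e
    exact Subtype.ext (conj_injective S h.2 h'.2 hu hu1 (congrArg Subtype.val e))
  · rintro ⟨g, ⟨hg, -⟩, hc⟩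
    obtain ⟨t, rfl⟩ := isConj_iff.1 hc
    obtain ⟨v, hv, h, hh, rfl⟩ := exists_factor S (fusion_U S hu hu1 hg)
    refine ⟨⟨h, hh⟩, Subtype.ext ?_⟩
    show h * u * h⁻¹ = v * h * u * (v * h)⁻¹
    have hm := S.conj h hh.1 u hu
    calc h * u * h⁻¹ = v * (h * u * h⁻¹) * v⁻¹ := by rw [S.comm v hv _ hm]; group
      _ = v * h * u * (v * h)⁻¹ := by group

open scoped Classical in
theorem card_hClasses :
    (meetClasses (stabilizer G a ⊓ stabilizer G b)).card * 2 =
      Nat.card ↥(stabilizer G a ⊓ stabilizer G b) - 1 := by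
  refine card_meetClasses_mul fun x hx hx1 => ?_
  have hne : x ≠ x⁻¹ := fun e => by
    have h2 : (⟨x, hx⟩ : ↥(stabilizer G a ⊓ stabilizer G b)) ^ 2 = 1 :=
      Subtype.ext (by rw [SubmonoidClass.coe_pow, sq]; exact (congrArg (x * ·) e).trans (mul_inv_cancel x))
    have h3 : orderOf (⟨x, hx⟩ : ↥(stabilizer G a ⊓ stabilizer G b)) ∣ 1 := by
      rw [← (S.odd.coprime_two_left)]
      exact Nat.dvd_gcd (orderOf_dvd_of_pow_eq_one h2) (orderOf_dvd_natCard _)
    exact hx1 (congrArg Subtype.val (orderOf_eq_one_iff.1 (Nat.dvd_one.1 h3)))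
  rw [← Finset.card_pair hne]
  congr 1
  ext g
  simp only [Finset.mem_filter, Finset.mem_univ, true_and, Finset.mem_insert, Finset.mem_singleton]
  constructor
  · rintro ⟨⟨hg, -⟩, hc⟩
    obtain ⟨t, rfl⟩ := isConj_iff.1 hc
    exact fusion_H S hx hx1 hg
  · rintro (rfl | rfl)
    · exact ⟨⟨hx, hx1⟩, IsConj.refl _⟩
    · obtain ⟨w, wa, wb⟩ := exists_swap S S.ne
      exact ⟨⟨inv_mem hx, inv_ne_one.2 hx1⟩, isConj_iff.2 ⟨w, inverted S wa wb hx⟩⟩

theorem card_classes_ge (hU : 2 ≤ Nat.card U) :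
    1 + (meetClasses U).card + (meetClasses (stabilizer G a ⊓ stabilizer G b)).card +
      (fpfClasses G Ω).card ≤ Nat.card (ConjClasses G) := by
  classical
  obtain ⟨f, hf⟩ : ∃ f : ConjClasses G → ℕ, ∀ g : G, f (ConjClasses.mk g) = (fixF Ω g).card :=
    ⟨Quotient.lift (fun g : G => (fixF Ω g).card) (fun g g' h => card_fixF_of_isConj h), fun _ => rfl⟩
  have h1 : ∀ C ∈ meetClasses U, f C = 1 := by
    intro C hC
    obtain ⟨g, ⟨hg, hg1⟩, rfl⟩ := mem_meetClasses.1 hC
    rw [hf, Finset.card_eq_one]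
    refine ⟨a, Finset.ext fun c => ?_⟩
    rw [mem_fixF, Finset.mem_singleton]
    exact ⟨fix_only S hg hg1, fun e => e ▸ fix_a S hg⟩
  have h2 : ∀ C ∈ meetClasses (stabilizer G a ⊓ stabilizer G b), f C = 2 := by
    intro C hC
    obtain ⟨g, ⟨hg, hg1⟩, rfl⟩ := mem_meetClasses.1 hC
    rw [hf, Finset.card_eq_two]
    refine ⟨a, b, S.ne, Finset.ext fun c => ?_⟩
    rw [mem_fixF, Finset.mem_insert, Finset.mem_singleton]
    refine ⟨fix_H S hg hg1, ?_⟩
    rintro (rfl | rfl)
    exacts [hg.1, hg.2]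
  have h0 : ∀ C ∈ fpfClasses G Ω, f C = 0 := by
    intro C hC
    obtain ⟨g, hg, rfl⟩ := mem_fpfClasses.1 hC
    rw [hf, hg]
  have hn : f (ConjClasses.mk 1) = Nat.card U + 1 := by
    rw [hf, fixF_one, Finset.card_univ, ← Nat.card_eq_fintype_card, card_points S]
  have d1 : ConjClasses.mk (1 : G) ∉ meetClasses U := fun h => by have := h1 _ h; omega
  have d2 : ConjClasses.mk (1 : G) ∉ meetClasses (stabilizer G a ⊓ stabilizer G b) := fun h => by
    have := h2 _ h; omega
  have d3 : ConjClasses.mk (1 : G) ∉ fpfClasses G Ω := fun h => by have := h0 _ h; omega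
  have e12 : _root_.Disjoint (meetClasses U) (meetClasses (stabilizer G a ⊓ stabilizer G b)) :=
    Finset.disjoint_left.2 fun C hC hC' => by have := h1 _ hC; have := h2 _ hC'; omega
  have e13 : _root_.Disjoint (meetClasses U ∪ meetClasses (stabilizer G a ⊓ stabilizer G b)) (fpfClasses G Ω) :=
    Finset.disjoint_left.2 fun C hC hC' => by
      have := h0 _ hC'
      rcases Finset.mem_union.1 hC with h | h
      · have := h1 _ h; omega
      · have := h2 _ h; omega
  have hle := Finset.card_le_univ (insert (ConjClasses.mk (1 : G))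
    (meetClasses U ∪ meetClasses (stabilizer G a ⊓ stabilizer G b) ∪ fpfClasses G Ω))
  rw [Finset.card_insert_of_notMem (by simp [d1, d2, d3]), Finset.card_union_of_disjoint e13,
    Finset.card_union_of_disjoint e12, ← Nat.card_eq_fintype_card] at hle
  omega

end AbKernel
end H59
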