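import Cfsg.Agent.H59.AbKernel.Setup
import Cfsg.Agent.H12.Orth

/-!
Counting pairs of involutions: many classes of elements without fixed points.
-/

set_option autoImplicit false

namespace H59
namespace AbKernel

open MulAction

variable {G Ω : Type*} [Group G] [Fintype G] [DecidableEq G] [MulAction G Ω] [Fintype Ω] [DecidableEq Ω]

/-- fixed points -/
def fixF (Ω : Type*) {G : Type*} [Group G] [MulAction G Ω] [Fintype Ω] [DecidableEq Ω] (g : G) :
    Finset Ω :=
  Finset.univ.filter fun c => g • c = c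

omit [Fintype G] [DecidableEq G] in
theorem mem_fixF {g : G} {c : Ω} : c ∈ fixF Ω g ↔ g • c = c := by simp [fixF]

omit [Fintype G] [DecidableEq G] in
theorem card_fixF_of_isConj {g g' : G} (h : IsConj g g') : (fixF Ω g).card = (fixF Ω g').card := by
  obtain ⟨t, rfl⟩ := isConj_iff.1 h
  refine Finset.card_bij (fun c _ => t • c) (fun c hc => ?_) (fun c _ c' _ e => MulAction.injective t e)
    (fun c hc => ⟨t⁻¹ • c, ?_, smul_inv_smul t c⟩)
  · rw [mem_fixF] at hc ⊢
    rw [mul_smul, mul_smul, inv_smul_smul, hc]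
  · rw [mem_fixF, mul_smul, mul_smul, smul_eq_iff_eq_inv_smul] at hc
    rw [mem_fixF]
    exact hc

/-- classes of elements without fixed points -/
noncomputable def fpfClasses (G Ω : Type*) [Group G] [Fintype G] [MulAction G Ω] [Fintype Ω]
    [DecidableEq Ω] : Finset (ConjClasses G) := by
  classical
  exact (Finset.univ.filter fun g : G => (fixF Ω g).card = 0).image ConjClasses.mk

omit [DecidableEq G] in
theorem mem_fpfClasses {C : ConjClasses G} :
    C ∈ fpfClasses G Ω ↔ ∃ g : G, (fixF Ω g).card = 0 ∧ ConjClasses.mk g = C := by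
  simp [fpfClasses]

omit [DecidableEq G] in
open scoped Classical in
/-- the centraliser orders add up to the number of classes times the group order -/
theorem sum_centralizer_fpf :
    ∑ g ∈ Finset.univ.filter (fun g : G => (fixF Ω g).card = 0),
      Nat.card (Subgroup.centralizer ({g} : Set G)) = (fpfClasses G Ω).card * Nat.card G := by
  rw [← Finset.sum_fiberwise_of_maps_to (g := ConjClasses.mk) (t := fpfClasses G Ω) (fun g hg => by
    exact mem_fpfClasses.2 ⟨g, (Finset.mem_filter.1 hg).2, rfl⟩), Finset.sum_const_nat]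
  intro C hC
  obtain ⟨g₀, hg₀, rfl⟩ := mem_fpfClasses.1 hC
  have hset : (Finset.univ.filter fun g : G => (fixF Ω g).card = 0).filter
      (fun g => ConjClasses.mk g = ConjClasses.mk g₀) = ({x : G | IsConj g₀ x} : Finset G) := by
    ext g
    simp only [Finset.mem_filter, Finset.mem_univ, true_and, ConjClasses.mk_eq_mk_iff_isConj]
    exact ⟨fun h => h.2.symm, fun h => ⟨by rw [← card_fixF_of_isConj h]; exact hg₀, h.symm⟩⟩
  rw [hset, Finset.sum_eq_card_nsmul (fun x hx => ?_), smul_eq_mul,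
    H12.card_conjClass_mul_card_centralizer g₀]
  simp only [Finset.mem_filter, Finset.mem_univ, true_and] at hx
  obtain ⟨t, rfl⟩ := isConj_iff.1 hx
  refine (Nat.card_congr ((MulAut.conj t).toEquiv.subtypeEquiv fun x => ?_)).symm
  simp only [Subgroup.mem_centralizer_singleton_iff, MulEquiv.toEquiv_eq_coe, EquivLike.coe_coe,
    MulAut.conj_apply]
  constructor
  · intro h
    rw [show t * x * t⁻¹ * (t * g₀ * t⁻¹) = t * (x * g₀) * t⁻¹ by group, h]; group
  · intro h
    have h' := congrArg (fun y => t⁻¹ * y * t) h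
    simpa [mul_assoc] using h'

/-- the number of involutions sending `x` to `y` -/
def num {Ω : Type*} (G : Type*) [Group G] [Fintype G] [DecidableEq G] [MulAction G Ω]
    [DecidableEq Ω] (x y : Ω) : ℕ :=
  (Finset.univ.filter fun g : G => (g ≠ 1 ∧ g * g = 1) ∧ g • x = y).card

/-- the involutions -/
def invols (G : Type*) [Group G] [Fintype G] [DecidableEq G] : Finset G :=
  Finset.univ.filter fun g => g ≠ 1 ∧ g * g = 1

omit [Fintype Ω] [DecidableEq Ω] in
theorem invols_filter [DecidableEq Ω] (x y : Ω) :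
    ((invols G).filter fun g => g • x = y).card = num G x y := by
  rw [invols, num, Finset.filter_filter]

variable {a b : Ω} {U : Subgroup G} (S : Setup G a b U)

include S

theorem num_pair {x y : Ω} (hxy : x ≠ y) :
    num G x y = Nat.card ↥(stabilizer G a ⊓ stabilizer G b) := by
  obtain ⟨g₀, g1, g2⟩ := exists_swap S hxy
  obtain ⟨t, t1, t2⟩ := pair S S.ne hxy
  have hmem : ∀ g : G, ((g ≠ 1 ∧ g * g = 1) ∧ g • x = y) ↔ g • x = y ∧ g • y = x := by
    intro g
    constructor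
    · rintro ⟨⟨-, h2⟩, h⟩
      exact ⟨h, by rw [← h, ← mul_smul, h2, one_smul]⟩
    · rintro ⟨h1, h2⟩
      exact ⟨⟨fun e => hxy (by rw [← h1, e, one_smul]), swap_sq S hxy h1 h2⟩, h1⟩
  rw [num, ← Fintype.card_subtype, ← Nat.card_eq_fintype_card]
  refine Nat.card_congr
    { toFun := fun g => ⟨t⁻¹ * (g₀⁻¹ * g.1) * t, ?_, ?_⟩
      invFun := fun h => ⟨g₀ * (t * h.1 * t⁻¹), (hmem _).2 ⟨?_, ?_⟩⟩
      left_inv := fun g => Subtype.ext (by simp [mul_assoc])
      right_inv := fun h => Subtype.ext (by simp [mul_assoc]) }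
  · show (t⁻¹ * (g₀⁻¹ * g.1) * t) • a = a
    rw [mul_smul, mul_smul, mul_smul, t1, ((hmem _).1 g.2).1, ← g1, inv_smul_smul, ← t1, inv_smul_smul]
  · show (t⁻¹ * (g₀⁻¹ * g.1) * t) • b = b
    rw [mul_smul, mul_smul, mul_smul, t2, ((hmem _).1 g.2).2, ← g2, inv_smul_smul, ← t2, inv_smul_smul]
  · rw [mul_smul, mul_smul, mul_smul, ← t1, inv_smul_smul, show h.1 • a = a from h.2.1, t1, g1]
  · rw [mul_smul, mul_smul, mul_smul, ← t2, inv_smul_smul, show h.1 • b = b from h.2.2, t2, g2]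

theorem num_fix (x : Ω) : num G x x = num G a a := by
  obtain ⟨c, hc⟩ : ∃ c, c ≠ x := by
    by_cases h : x = a
    · exact ⟨b, h ▸ S.ne.symm⟩
    · exact ⟨a, Ne.symm h⟩
  obtain ⟨t, t1, -⟩ := pair S S.ne hc.symm
  rw [num, num, ← Fintype.card_subtype, ← Fintype.card_subtype]
  refine Fintype.card_congr
    { toFun := fun g => ⟨t⁻¹ * g.1 * t, ⟨?_, ?_⟩, ?_⟩
      invFun := fun g => ⟨t * g.1 * t⁻¹, ⟨?_, ?_⟩, ?_⟩
      left_inv := fun g => Subtype.ext (by simp [mul_assoc])
      right_inv := fun g => Subtype.ext (by simp [mul_assoc]) }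
  · exact fun e => g.2.1.1 (conj_eq_one_iff.1 (by simpa using e : t⁻¹ * g.1 * t⁻¹⁻¹ = 1))
  · rw [show t⁻¹ * g.1 * t * (t⁻¹ * g.1 * t) = t⁻¹ * (g.1 * g.1) * t by group, g.2.1.2]; group
  · rw [mul_smul, mul_smul, t1, g.2.2, ← t1, inv_smul_smul]
  · exact fun e => g.2.1.1 (conj_eq_one_iff.1 e)
  · rw [show t * g.1 * t⁻¹ * (t * g.1 * t⁻¹) = t * (g.1 * g.1) * t⁻¹ by group, g.2.1.2]; group
  · rw [mul_smul, mul_smul, ← t1, inv_smul_smul, g.2.2, t1]

theorem card_fixF_le_two {g : G} (hg : g ≠ 1) : (fixF Ω g).card ≤ 2 := by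
  by_contra h
  obtain ⟨x, y, z, hx, hy, hz, hxy, hxz, hyz⟩ := Finset.two_lt_card_iff.1 (not_le.1 h)
  exact hg (S.h3 g x y z hxy hyz hxz (mem_fixF.1 hx) (mem_fixF.1 hy) (mem_fixF.1 hz))

omit S in
theorem fixF_one : fixF Ω (1 : G) = Finset.univ := by ext; simp [mem_fixF]

/-- enough classes without fixed points -/
theorem card_fpfClasses_ge
    (hq : 2 * Nat.card ↥(stabilizer G a ⊓ stabilizer G b) + 1 < Nat.card U) :
    Nat.card ↥(stabilizer G a ⊓ stabilizer G b) + 1 ≤ 2 * (fpfClasses G Ω).card := by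
  classical
  obtain ⟨d, hd⟩ : ∃ d, d = Nat.card ↥(stabilizer G a ⊓ stabilizer G b) := ⟨_, rfl⟩
  obtain ⟨q, hqdef⟩ : ∃ q, q = Nat.card U := ⟨_, rfl⟩
  obtain ⟨j, hj⟩ : ∃ j, j = num G a a := ⟨_, rfl⟩
  obtain ⟨I, hI⟩ : ∃ I, I = invols G := ⟨_, rfl⟩
  rw [← hd, ← hqdef] at hq
  rw [← hd]
  have hn : Fintype.card Ω = q + 1 := by rw [← Nat.card_eq_fintype_card, card_points S, hqdef]
  have hnum : ∀ x y : Ω, num G x y = if x = y then j else d := by
    intro x y
    split_ifs with h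
    · rw [h, num_fix S, hj]
    · rw [num_pair S h, hd]
  have hrow : ∀ (x : Ω) (f : ℕ → ℕ), ∑ y, f (num G x y) = q * f d + f j := by
    intro x f
    rw [← Finset.add_sum_erase _ _ (Finset.mem_univ x), hnum x x, if_pos rfl,
      Finset.sum_const_nat (m := f d), Finset.card_erase_of_mem (Finset.mem_univ x), Finset.card_univ,
      hn, Nat.add_sub_cancel, add_comm]
    intro y hy
    rw [hnum, if_neg (Finset.ne_of_mem_erase hy).symm]
  have hIcard : I.card = q * d + j := by
    rw [Finset.card_eq_sum_card_fiberwise (f := fun g : G => g • a) (t := (Finset.univ : Finset Ω))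
      (fun _ _ => Finset.mem_coe.2 (Finset.mem_univ _))]
    have := hrow a id
    simp only [id_eq] at this
    rw [← this]
    exact Finset.sum_congr rfl fun y _ => by rw [hI, invols_filter]
  have hI1 : ∀ u ∈ I, u ≠ 1 ∧ u * u = 1 := fun u hu => by
    rw [hI, invols, Finset.mem_filter] at hu; exact hu.2
  -- fixed points of involutions
  have hjle : (q + 1) * j ≤ 2 * I.card := by
    have h1 : ∑ u ∈ I, (fixF Ω u).card = (q + 1) * j := by
      simp only [fixF, Finset.card_filter]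
      rw [Finset.sum_comm, Finset.sum_const_nat (m := j), Finset.card_univ, hn]
      intro x _
      rw [← Finset.card_filter, hI, invols_filter, hnum, if_pos rfl]
    have h2 := Finset.sum_le_card_nsmul I _ 2 fun u hu => card_fixF_le_two S (hI1 u hu).1
    rw [smul_eq_mul] at h2
    omega
  -- the pairs
  obtain ⟨P, hP⟩ : ∃ P : Finset (G × G), P = I ×ˢ I := ⟨_, rfl⟩
  have hPmem : ∀ p ∈ P, p.1 ∈ I ∧ p.2 ∈ I := fun p hp => Finset.mem_product.1 (hP ▸ hp)
  have hmul : ∀ p ∈ P, (p.1 * p.2 = 1 ↔ p.1 = p.2) := by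
    intro p hp
    rw [mul_eq_one_iff_inv_eq, inv_eq_of_mul_eq_one_right (hI1 _ (hPmem p hp).1).2]
  have hsum : ∑ p ∈ P, (fixF Ω (p.1 * p.2)).card = (q + 1) * (q * d ^ 2 + j ^ 2) := by
    simp only [fixF, Finset.card_filter]
    rw [Finset.sum_comm, Finset.sum_const_nat (m := q * d ^ 2 + j ^ 2), Finset.card_univ, hn]
    intro x _
    rw [← Finset.card_filter]
    have hfil : ∀ p ∈ P, ((p.1 * p.2) • x = x ↔ p.2 • x = p.1 • x) := fun p hp => by
      rw [mul_smul, smul_eq_iff_eq_inv_smul, inv_eq_of_mul_eq_one_right (hI1 _ (hPmem p hp).1).2]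
    rw [Finset.filter_congr hfil,
      Finset.card_eq_sum_card_fiberwise (f := fun p : G × G => p.1 • x) (t := (Finset.univ : Finset Ω))
        (fun _ _ => Finset.mem_coe.2 (Finset.mem_univ _))]
    rw [← hrow x (fun t => t ^ 2)]
    refine Finset.sum_congr rfl fun y _ => ?_
    rw [sq, ← invols_filter, ← Finset.card_product]
    congr 1
    ext ⟨u, v⟩
    simp only [hP, hI, Finset.mem_filter, Finset.mem_product]
    constructor
    · rintro ⟨⟨⟨hu, hv⟩, h⟩, h'⟩; exact ⟨⟨hu, h'⟩, hv, h.trans h'⟩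
    · rintro ⟨⟨hu, h'⟩, hv, h⟩; exact ⟨⟨⟨hu, hv⟩, h.trans h'.symm⟩, h'⟩
  have hoff : (q + 1) * q * (d * d - d + I.card) ≤ ∑ p ∈ P, (fixF Ω (p.1 * p.2)).offDiag.card := by
    have h1 : ∀ p : G × G, (fixF Ω (p.1 * p.2)).offDiag.card = ((Finset.univ : Finset Ω).offDiag.filter
        fun c : Ω × Ω => (p.1 * p.2) • c.1 = c.1 ∧ (p.1 * p.2) • c.2 = c.2).card := by
      intro p
      congr 1
      ext c
      simp only [Finset.mem_offDiag, mem_fixF, Finset.mem_filter, Finset.mem_univ, true_and]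
      tauto
    simp only [h1, Finset.card_filter]
    rw [Finset.sum_comm]
    refine le_trans ?_ (Finset.card_nsmul_le_sum _ _ (d * d - d + I.card) fun c hc => ?_)
    · rw [Finset.offDiag_card, Finset.card_univ, hn, smul_eq_mul]
      refine le_of_eq ?_
      congr 1
      rw [Nat.mul_succ, Nat.add_sub_cancel]
    rw [← Finset.card_filter]
    obtain ⟨x, y⟩ := c
    simp only [Finset.mem_offDiag, Finset.mem_univ, true_and] at hc
    obtain ⟨W, hW⟩ : ∃ W, W = I.filter fun g => g • x = y := ⟨_, rfl⟩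
    have hWcard : W.card = d := by rw [hW, hI, invols_filter, hnum, if_neg hc]
    have hWy : ∀ g ∈ W, g ∈ I ∧ g • x = y ∧ g • y = x := by
      intro g hg
      rw [hW, Finset.mem_filter] at hg
      exact ⟨hg.1, hg.2, by rw [← hg.2, ← mul_smul, (hI1 g hg.1).2, one_smul]⟩
    have hsub : (W ×ˢ W) ∪ I.image (fun u => (u, u)) ⊆ P.filter
        fun p : G × G => (p.1 * p.2) • x = x ∧ (p.1 * p.2) • y = y := by
      intro p hp
      rw [Finset.mem_filter, hP, Finset.mem_product]
      rcases Finset.mem_union.1 hp with hp | hp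
      · obtain ⟨h1, h2⟩ := Finset.mem_product.1 hp
        obtain ⟨u1, u2, u3⟩ := hWy _ h1
        obtain ⟨v1, v2, v3⟩ := hWy _ h2
        exact ⟨⟨u1, v1⟩, by rw [mul_smul, v2, u3], by rw [mul_smul, v3, u2]⟩
      · obtain ⟨u, hu, rfl⟩ := Finset.mem_image.1 hp
        simp [hu, (hI1 u hu).2]
    refine le_trans ?_ (Finset.card_le_card hsub)
    have hint : (W ×ˢ W) ∩ I.image (fun u => (u, u)) ⊆ W.image (fun u => (u, u)) := by
      intro p hp
      rw [Finset.mem_inter, Finset.mem_product] at hp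
      obtain ⟨u, -, rfl⟩ := Finset.mem_image.1 hp.2
      exact Finset.mem_image_of_mem _ hp.1.1
    have h3 := Finset.card_union_add_card_inter (W ×ˢ W) (I.image fun u => (u, u))
    have h4 := (Finset.card_le_card hint).trans Finset.card_image_le
    rw [Finset.card_product, hWcard] at h3
    rw [hWcard] at h4
    rw [Finset.card_image_of_injective _ (fun u v e => congrArg Prod.fst e)] at h3
    have := Nat.le_mul_self d
    omega
  have hpoint : ∀ p ∈ P, 2 * (if (fixF Ω (p.1 * p.2)).card = 0 then 0 else 1) +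
      (fixF Ω (p.1 * p.2)).offDiag.card + (if p.1 = p.2 then 2 * q else 0) =
      2 * (fixF Ω (p.1 * p.2)).card + (if p.1 = p.2 then (q + 1) * q else 0) := by
    intro p hp
    rw [Finset.offDiag_card]
    by_cases h : p.1 = p.2
    · have e : (q + 1) * (q + 1) - (q + 1) = (q + 1) * q := by rw [Nat.mul_succ, Nat.add_sub_cancel]
      rw [(hmul p hp).2 h, fixF_one, Finset.card_univ, hn, if_pos h, if_pos h, if_neg (by omega), e]
      ring
    · have h2 := card_fixF_le_two S (fun e => h ((hmul p hp).1 e))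
      rw [if_neg h, if_neg h]
      generalize (fixF Ω (p.1 * p.2)).card = f at h2
      interval_cases f <;> simp
  have hdiag : (P.filter fun p : G × G => p.1 = p.2).card = I.card := by
    rw [← Finset.card_image_of_injective I (f := fun u => (u, u)) (fun u v e => congrArg Prod.fst e)]
    congr 1
    ext ⟨u, v⟩
    simp only [hP, Finset.mem_filter, Finset.mem_product, Finset.mem_image, Prod.mk.injEq]
    constructor
    · rintro ⟨⟨hu, -⟩, rfl⟩; exact ⟨u, hu, rfl, rfl⟩
    · rintro ⟨w, hw, rfl, rfl⟩; exact ⟨⟨hw, hw⟩, rfl⟩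
  obtain ⟨Z, hZ⟩ : ∃ Z, Z = P.filter fun p : G × G => (fixF Ω (p.1 * p.2)).card = 0 := ⟨_, rfl⟩
  have htot : Z.card + ∑ p ∈ P, (if (fixF Ω (p.1 * p.2)).card = 0 then 0 else 1) = I.card * I.card := by
    rw [hZ, Finset.card_filter, ← Finset.sum_add_distrib, Finset.sum_const_nat (m := 1), mul_one, hP,
      Finset.card_product]
    intro p _
    split_ifs <;> rfl
  have hmain := Finset.sum_congr rfl hpoint
  rw [Finset.sum_add_distrib, Finset.sum_add_distrib, Finset.sum_add_distrib, ← Finset.mul_sum,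
    ← Finset.mul_sum, ← Finset.sum_filter, ← Finset.sum_filter, Finset.sum_const, Finset.sum_const,
    hdiag, hsum, smul_eq_mul, smul_eq_mul] at hmain
  -- a pair with product `x` gives an element of the centraliser of `x`
  have hZle : Z.card ≤ (fpfClasses G Ω).card * Nat.card G := by
    rw [← sum_centralizer_fpf, Finset.card_eq_sum_card_fiberwise
      (f := fun p : G × G => p.1 * p.2) (t := Finset.univ.filter fun g : G => (fixF Ω g).card = 0)
      (fun p hp => by
        rw [Finset.mem_coe, hZ, Finset.mem_filter] at hp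
        exact Finset.mem_coe.2 (Finset.mem_filter.2 ⟨Finset.mem_univ _, hp.2⟩))]
    refine Finset.sum_le_sum fun g _ => ?_
    obtain ⟨Fb, hFb⟩ : ∃ Fb, Fb = Z.filter fun p : G × G => p.1 * p.2 = g := ⟨_, rfl⟩
    rw [← hFb]
    rcases Fb.eq_empty_or_nonempty with h | ⟨p₀, hp₀⟩
    · simp [h]
    have hinv : ∀ p ∈ Fb, p.1 ∈ I ∧ p.2 = p.1 * g ∧ p.1 * g * p.1 = g⁻¹ := by
      intro p hp
      rw [hFb, Finset.mem_filter, hZ, Finset.mem_filter] at hp
      obtain ⟨⟨hp, -⟩, rfl⟩ := hp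
      obtain ⟨h1, h2⟩ := hPmem p hp
      refine ⟨h1, by rw [← mul_assoc, (hI1 _ h1).2, one_mul], ?_⟩
      rw [mul_inv_rev, inv_eq_of_mul_eq_one_right (hI1 _ h1).2,
        inv_eq_of_mul_eq_one_right (hI1 _ h2).2, ← mul_assoc, (hI1 _ h1).2, one_mul]
    have hcm : ∀ p ∈ Fb, p₀.1 * p.1 ∈ Subgroup.centralizer ({g} : Set G) := by
      intro p hp
      obtain ⟨h1, -, h3⟩ := hinv p hp
      obtain ⟨k1, -, k3⟩ := hinv p₀ hp₀
      have e2 : p.1 * g = g⁻¹ * p.1 :=
        calc p.1 * g = p.1 * g * p.1 * p.1⁻¹ := by group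
          _ = g⁻¹ * p.1 := by rw [h3, inv_eq_of_mul_eq_one_right (hI1 _ h1).2]
      have e3 : p₀.1 * g⁻¹ = g * p₀.1 := by
        rw [← k3]
        calc p₀.1 * (p₀.1 * g * p₀.1) = p₀.1 * p₀.1 * (g * p₀.1) := by group
          _ = g * p₀.1 := by rw [(hI1 _ k1).2, one_mul]
      rw [Subgroup.mem_centralizer_singleton_iff, mul_assoc, e2, ← mul_assoc, e3, mul_assoc]
    rw [← Fintype.card_coe, ← Nat.card_eq_fintype_card]
    refine Nat.card_le_card_of_injective
      (fun p : {p // p ∈ Fb} => (⟨p₀.1 * p.1.1, hcm _ p.2⟩ : Subgroup.centralizer ({g} : Set G)))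
      fun p p' e => ?_
    have e1 : p.1.1 = p'.1.1 := mul_left_cancel (congrArg Subtype.val e)
    exact Subtype.ext (Prod.ext e1 (by rw [(hinv _ p.2).2.1, (hinv _ p'.2).2.1, e1]))
  have hG := card_group S
  rw [← hd, ← hqdef] at hG
  rw [hG] at hZle
  -- arithmetic
  obtain ⟨M, hM⟩ : ∃ M, M = (fpfClasses G Ω).card := ⟨_, rfl⟩
  rw [← hM] at hZle ⊢
  obtain ⟨o, ho⟩ : ∃ o, o = ∑ p ∈ P, (fixF Ω (p.1 * p.2)).offDiag.card := ⟨_, rfl⟩
  obtain ⟨nf, hnf⟩ : ∃ nf, nf = ∑ p ∈ P, (if (fixF Ω (p.1 * p.2)).card = 0 then 0 else 1) := ⟨_, rfl⟩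
  rw [← ho] at hoff hmain
  rw [← hnf] at htot hmain
  rw [hIcard] at hjle hoff hmain htot
  have hdd : d ≤ d * d := Nat.le_mul_self d
  zify [hdd] at hoff hmain htot hZle hjle hq ⊢
  have hd3 : (3 : ℤ) ≤ d := by exact_mod_cast hd ▸ S.three
  have hj2 : (j : ℤ) ≤ 2 * d + 1 := by nlinarith
  have hjj : (0 : ℤ) ≤ j * (2 * d + 1 - j) := mul_nonneg (by positivity) (by linarith)
  have hkey : (q : ℤ) * d * ((q - 1) * (d + 1)) ≤ 2 * (Z.card : ℤ) := by nlinarith
  have hkey2 : ((q : ℤ) - 1) * (d + 1) ≤ 2 * M * (q + 1) := by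
    have hpos : (0 : ℤ) < q * d := by nlinarith
    refine le_of_mul_le_mul_left (a := (q : ℤ) * d) ?_ hpos
    nlinarith
  by_contra hcon
  have : (2 : ℤ) * M ≤ d := by omega
  nlinarith

end AbKernel
end H59
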