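import Cfsg.Agent.H59.AbKernel.Bound
import Cfsg.Agent.H56.Zassenhaus
import Cfsg.Agent.H59.HalfPSL
import Cfsg.Agent.H66.ZassTwoPoint
import Cfsg.Agent.S0741
import Cfsg.Agent.S0742

/-!
Zassenhaus groups with an abelian regular normal subgroup `F` in a point stabiliser: the two-point
stabiliser has order `|Ω| - 2`, or the group is `PSL(2, K)` with `|K|` odd.
-/

set_option autoImplicit false

namespace H59
namespace AbKernel

open MulAction

universe u v

variable {G : Type u} {Ω : Type v} [Group G] [MulAction G Ω]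

/-- a normal subgroup of a Zassenhaus group contains the abelian point kernel -/
theorem kernel_le_normal [Finite G] [Finite Ω] (hZ : Cfsg.IsZassenhausGroup G Ω) {x b : Ω} (hxb : x ≠ b)
    {F : Subgroup G} (hFle : F ≤ stabilizer G x) (hconj : ∀ g : G, g • x = x → ∀ u ∈ F, g * u * g⁻¹ ∈ F)
    (hreg : ∀ y z : Ω, y ≠ x → z ≠ x → ∃! u : F, (u : G) • y = z)
    (N : Subgroup G) [N.Normal] (hN : N ≠ ⊥) : F ≤ N := by
  classical
  obtain ⟨-, -, h3, -, -⟩ := id hZ
  have hZN := H56.normal_zassenhaus hZ N hN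
  intro u hu
  have hux : u • x = x := hFle hu
  have hub : u • b ≠ x := fun e => hxb (MulAction.injective u (e.trans hux.symm)).symm
  obtain ⟨n, hnx, hnb⟩ := (is_two_pretransitive_iff.1 hZN.2.1) hxb hub.symm
  have hn1 : (n : G) • x = x := hnx
  have hn2 : (n : G) • b = u • b := hnb
  set h := u⁻¹ * (n : G) with hh
  have hhx : h • x = x := by rw [hh, mul_smul, hn1, inv_smul_eq_iff, hux]
  have hhb : h • b = b := by rw [hh, mul_smul, hn2, inv_smul_smul]
  have hnu : (n : G) = u * h := by rw [hh, mul_inv_cancel_left]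
  by_cases h1 : h = 1
  · have : (n : G) = u := by rw [hnu, h1, mul_one]
    exact this ▸ n.2
  -- `v ↦ v * (h v⁻¹ h⁻¹)` is onto `F`
  let φ : F → F := fun v => ⟨(v : G) * (h * (v : G)⁻¹ * h⁻¹), F.mul_mem v.2 (hconj h hhx _ (F.inv_mem v.2))⟩
  have hinj : Function.Injective φ := by
    rintro ⟨v, hv⟩ ⟨w, hw⟩ e
    have e' : v * (h * v⁻¹ * h⁻¹) = w * (h * w⁻¹ * h⁻¹) := congrArg Subtype.val e
    have hc : h * (w⁻¹ * v) = w⁻¹ * v * h := by
      calc h * (w⁻¹ * v) = w⁻¹ * (w * (h * w⁻¹ * h⁻¹)) * h * v := by group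
        _ = w⁻¹ * (v * (h * v⁻¹ * h⁻¹)) * h * v := by rw [e']
        _ = w⁻¹ * v * h := by group
    have hm : w⁻¹ * v ∈ F := F.mul_mem (F.inv_mem hw) hv
    have hz : (w⁻¹ * v) • b = b := by
      by_contra hne
      have hzx : (w⁻¹ * v) • b ≠ x := fun e =>
        hxb (MulAction.injective (w⁻¹ * v) (e.trans (hFle hm).symm)).symm
      exact h1 (h3 h x b _ hxb (Ne.symm hne) hzx.symm hhx hhb (by rw [← mul_smul, hc, mul_smul, hhb]))
    have := (hreg b b hxb.symm hxb.symm).unique (y₁ := ⟨_, hm⟩) (y₂ := 1) hz (one_smul G b)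
    exact Subtype.ext (inv_mul_eq_one.1 (congrArg Subtype.val this)).symm
  obtain ⟨⟨v, hv⟩, hvu⟩ := Finite.injective_iff_surjective.1 hinj ⟨u, hu⟩
  have hvu' : v * (h * v⁻¹ * h⁻¹) = u := congrArg Subtype.val hvu
  have hhN : h ∈ N := by
    have h2 : v⁻¹ * (n : G) * v⁻¹⁻¹ = h := by rw [hnu, ← hvu']; group
    exact h2 ▸ Subgroup.Normal.conj_mem inferInstance _ n.2 v⁻¹
  have : u = (n : G) * h⁻¹ := by rw [hnu, mul_inv_cancel_right]
  exact this ▸ N.mul_mem n.2 (N.inv_mem hhN)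

/-- in a simple Zassenhaus group every element interchanging two points is an involution -/
theorem swap_sq_simple [Finite G] [Finite Ω] (hZ : Cfsg.IsZassenhausGroup G Ω) [IsSimpleGroup G]
    {a b : Ω} (hab : a ≠ b) : ∀ g : G, g • a = b → g • b = a → g * g = 1 := by
  obtain ⟨-, v, hv, hva, hvb, hinv⟩ := H66.Sharp.cyclic_inverted hZ hab
  intro g ga gb
  have hv2 : v * v = 1 := by rw [← pow_two, ← hv, pow_orderOf_eq_one]
  have hh : v⁻¹ * g ∈ stabilizer G a ⊓ stabilizer G b := Subgroup.mem_inf.2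
    ⟨mem_stabilizer_iff.2 (by rw [mul_smul, ga, inv_smul_eq_iff, hva]),
     mem_stabilizer_iff.2 (by rw [mul_smul, gb, inv_smul_eq_iff, hvb])⟩
  have h := hinv _ hh
  calc g * g = (v * (v⁻¹ * g) * v⁻¹) * (v * v) * (v⁻¹ * g) := by group
    _ = 1 := by rw [h, hv2]; group

/-- the configuration in a simple group -/
theorem setup_of_simple [Finite G] [Finite Ω] (hZ : Cfsg.IsZassenhausGroup G Ω) [IsSimpleGroup G]
    {x b : Ω} (hxb : x ≠ b) {F : Subgroup G} (hFle : F ≤ stabilizer G x)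
    (hconj : ∀ g : G, g • x = x → ∀ u ∈ F, g * u * g⁻¹ ∈ F)
    (hcomm : ∀ u ∈ F, ∀ v ∈ F, u * v = v * u)
    (hreg : ∀ y z : Ω, y ≠ x → z ≠ x → ∃! u : F, (u : G) • y = z)
    (hodd : Odd (Nat.card ↥(stabilizer G x ⊓ stabilizer G b)))
    (hne : Nat.card ↥(stabilizer G x ⊓ stabilizer G b) ≠ 1) : Setup G x b F where
  h2 := hZ.2.1
  h3 := hZ.2.2.1
  ne := hxb
  le := hFle
  conj := hconj
  comm := hcomm
  reg := hreg
  swap := swap_sq_simple hZ hxb
  odd := hodd
  three := by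
    obtain ⟨k, hk⟩ := hodd
    omega

/-- some non-identity element fixes two given points -/
theorem card_pair_stab_ne_one [Finite G] (hZ : Cfsg.IsZassenhausGroup G Ω) {a b : Ω} (hab : a ≠ b) :
    Nat.card ↥(stabilizer G a ⊓ stabilizer G b) ≠ 1 := by
  intro h
  obtain ⟨-, h2, -, ⟨g, hg, c, e, hce, hgc, hge⟩, -⟩ := hZ
  obtain ⟨t, t1, t2⟩ := (is_two_pretransitive_iff.1 h2) hce hab
  have hm : t * g * t⁻¹ ∈ stabilizer G a ⊓ stabilizer G b := Subgroup.mem_inf.2
    ⟨mem_stabilizer_iff.2 (by rw [mul_smul, mul_smul, ← t1, inv_smul_smul, hgc]),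
     mem_stabilizer_iff.2 (by rw [mul_smul, mul_smul, ← t2, inv_smul_smul, hge])⟩
  rw [Subgroup.card_eq_one.1 h, Subgroup.mem_bot, conj_eq_one_iff] at hm
  exact hg hm

/-- the two-point stabiliser of a normal subgroup -/
theorem card_pair_stab_normal (N : Subgroup G) (a b : Ω) :
    Nat.card ↥(stabilizer N a ⊓ stabilizer N b) = Nat.card ↥((stabilizer G a ⊓ stabilizer G b) ⊓ N) :=
  Nat.card_congr
    { toFun := fun n => ⟨(n : N), n.2, (n : N).2⟩
      invFun := fun g => ⟨⟨g, g.2.2⟩, g.2.1⟩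
      left_inv := fun _ => rfl
      right_inv := fun _ => rfl }

/-- a proper non-trivial normal subgroup has the same point kernel -/
theorem normal_data [Finite G] [Finite Ω] (hZ : Cfsg.IsZassenhausGroup G Ω) {x b : Ω} (hxb : x ≠ b)
    {F : Subgroup G} (hFle : F ≤ stabilizer G x) (hconj : ∀ g : G, g • x = x → ∀ u ∈ F, g * u * g⁻¹ ∈ F)
    (hcomm : ∀ u ∈ F, ∀ v ∈ F, u * v = v * u)
    (hreg : ∀ y z : Ω, y ≠ x → z ≠ x → ∃! u : F, (u : G) • y = z)
    (N : Subgroup G) [N.Normal] (hN : N ≠ ⊥) :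
    Cfsg.IsZassenhausGroup N Ω ∧ F.subgroupOf N ≤ stabilizer N x ∧
      (∀ g : N, g • x = x → ∀ u ∈ F.subgroupOf N, g * u * g⁻¹ ∈ F.subgroupOf N) ∧
      (∀ u ∈ F.subgroupOf N, ∀ v ∈ F.subgroupOf N, u * v = v * u) ∧
      (∀ y z : Ω, y ≠ x → z ≠ x → ∃! u : F.subgroupOf N, (u : N) • y = z) ∧
      Nat.card (F.subgroupOf N) = Nat.card F ∧
      Nat.card ↥(stabilizer N x ⊓ stabilizer N b) ∣ Nat.card ↥(stabilizer G x ⊓ stabilizer G b) := by
  have hle := kernel_le_normal hZ hxb hFle hconj hreg N hN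
  refine ⟨H56.normal_zassenhaus hZ N hN, fun n hn => hFle (Subgroup.mem_subgroupOf.1 hn),
    fun g hg u hu => Subgroup.mem_subgroupOf.2 (hconj g hg u (Subgroup.mem_subgroupOf.1 hu)),
    fun u hu v hv => Subtype.ext (hcomm _ (Subgroup.mem_subgroupOf.1 hu) _ (Subgroup.mem_subgroupOf.1 hv)),
    fun y z hy hz => ?_, Nat.card_congr (Subgroup.subgroupOfEquivOfLe hle).toEquiv, ?_⟩
  · obtain ⟨u, hu, huu⟩ := hreg y z hy hz
    refine ⟨(Subgroup.subgroupOfEquivOfLe hle).symm u, hu, fun w hw => ?_⟩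
    apply (Subgroup.subgroupOfEquivOfLe hle).injective
    rw [MulEquiv.apply_symm_apply]
    exact huu _ hw
  · rw [card_pair_stab_normal]
    exact Subgroup.card_dvd_of_le inf_le_left

/-- `|F| ≤ 2 d + 1` when the two-point stabiliser has odd order `d` -/
theorem kernel_bound_odd (n : ℕ) : ∀ {G : Type u} {Ω : Type v} [Group G] [Finite G] [MulAction G Ω] [Finite Ω],
    Nat.card G = n → Cfsg.IsZassenhausGroup G Ω → ∀ {x b : Ω}, x ≠ b → ∀ {F : Subgroup G},
    F ≤ stabilizer G x → (∀ g : G, g • x = x → ∀ u ∈ F, g * u * g⁻¹ ∈ F) →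
    (∀ u ∈ F, ∀ v ∈ F, u * v = v * u) →
    (∀ y z : Ω, y ≠ x → z ≠ x → ∃! u : F, (u : G) • y = z) →
    Odd (Nat.card ↥(stabilizer G x ⊓ stabilizer G b)) →
    Nat.card F ≤ 2 * Nat.card ↥(stabilizer G x ⊓ stabilizer G b) + 1 := by
  induction n using Nat.strong_induction_on with
  | _ n ih =>
    intro G Ω _ _ _ _ hn hZ x b hxb F hFle hconj hcomm hreg hodd
    by_cases hs : IsSimpleGroup G
    · exact card_kernel_le (setup_of_simple hZ hxb hFle hconj hcomm hreg hodd (card_pair_stab_ne_one hZ hxb))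
    haveI : Nontrivial G := by
      obtain ⟨g, hg, -⟩ := hZ.2.2.2.1
      exact ⟨g, 1, hg⟩
    obtain ⟨N, hNn, hN1, hN2⟩ : ∃ N : Subgroup G, N.Normal ∧ N ≠ ⊥ ∧ N ≠ ⊤ := by
      by_contra h
      push Not at h
      exact hs ⟨fun N hN => or_iff_not_imp_left.2 (h N hN)⟩
    obtain ⟨hZN, h1, h2, h3, h4, h5, h6⟩ := normal_data hZ hxb hFle hconj hcomm hreg N hN1
    have hlt : Nat.card N < n := by
      rw [← hn]
      exact lt_of_le_of_ne (Subgroup.card_le_card_group N) fun e => hN2 (Subgroup.eq_top_of_card_eq N e)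
    have := ih _ hlt rfl hZN hxb h1 h2 h3 h4 (Odd.of_dvd_nat hodd h6)
    have := Nat.le_of_dvd Nat.card_pos h6
    omega

/-- the two cases -/
theorem abelian_kernel_cases [Finite G] [Fintype Ω] (hZ : Cfsg.IsZassenhausGroup G Ω) {x b : Ω} (hxb : x ≠ b)
    {F : Subgroup G} (hFle : F ≤ stabilizer G x) (hconj : ∀ g : G, g • x = x → ∀ u ∈ F, g * u * g⁻¹ ∈ F)
    (hcomm : ∀ u ∈ F, ∀ v ∈ F, u * v = v * u)
    (hreg : ∀ y z : Ω, y ≠ x → z ≠ x → ∃! u : F, (u : G) • y = z) :
    Fintype.card Ω = Nat.card ↥(stabilizer G x ⊓ stabilizer G b) + 2 ∨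
    (Fintype.card Ω = 2 * Nat.card ↥(stabilizer G x ⊓ stabilizer G b) + 2 ∧
      ∃ (K : Type) (_ : Field K) (_ : Fintype K), ringChar K ≠ 2 ∧ Fintype.card K + 1 = Fintype.card Ω ∧
        Nonempty (G ≃* Matrix.ProjectiveSpecialLinearGroup (Fin 2) K)) := by
  classical
  obtain ⟨-, h2, h3, -, -⟩ := id hZ
  set H := stabilizer G x ⊓ stabilizer G b with hH
  have hd1 : Nat.card H ≠ 1 := card_pair_stab_ne_one hZ hxb
  have hd0 : 0 < Nat.card H := Nat.card_pos
  -- `|Ω| = |F| + 1`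
  have hq : Nat.card F + 1 = Fintype.card Ω := by
    have e : F ≃ {c : Ω // c ≠ x} := Equiv.ofBijective
      (fun u => ⟨(u : G) • b, fun e => hxb (MulAction.injective (u : G) (e.trans (hFle u.2).symm)).symm⟩)
      ⟨fun u v h => (hreg b _ hxb.symm (fun e => hxb (MulAction.injective (v : G) (e.trans (hFle v.2).symm)).symm)).unique
          (congrArg Subtype.val h) rfl,
       fun c => ⟨(hreg b c hxb.symm c.2).choose, Subtype.ext (hreg b c hxb.symm c.2).choose_spec.1⟩⟩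
    rw [Nat.card_congr e, Nat.card_eq_fintype_card, Fintype.card_subtype_compl, Fintype.card_subtype_eq]
    have : 0 < Fintype.card Ω := Fintype.card_pos_iff.2 ⟨x⟩
    omega
  -- `d` divides `|Ω| - 2`
  have hdvd : Nat.card H ∣ Fintype.card Ω - 2 := by
    letI : MulAction H {p : Ω // p ≠ x ∧ p ≠ b} :=
      { smul := fun h p => ⟨(h : G) • p.1,
          fun e => p.2.1 (MulAction.injective (h : G) (e.trans (Subgroup.mem_inf.mp h.2).1.symm)),
          fun e => p.2.2 (MulAction.injective (h : G) (e.trans (Subgroup.mem_inf.mp h.2).2.symm))⟩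
        one_smul := fun p => Subtype.ext (one_smul G p.1)
        mul_smul := fun g h p => Subtype.ext (mul_smul (g : G) (h : G) p.1) }
    have hfree : ∀ p : {p : Ω // p ≠ x ∧ p ≠ b}, stabilizer H p = ⊥ := fun p =>
      (Subgroup.eq_bot_iff_forall _).2 fun h hh => Subtype.ext (h3 (h : G) x b p.1 hxb p.2.2.symm p.2.1.symm
        (Subgroup.mem_inf.mp h.2).1 (Subgroup.mem_inf.mp h.2).2 (congrArg Subtype.val hh))
    have hcard : Fintype.card Ω - 2 = Nat.card {p : Ω // p ≠ x ∧ p ≠ b} := by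
      rw [Nat.card_eq_fintype_card, Fintype.card_subtype,
        show (Finset.univ.filter fun p : Ω => p ≠ x ∧ p ≠ b) = ({x, b} : Finset Ω)ᶜ by ext p; simp,
        Finset.card_compl, Finset.card_pair hxb]
    rw [hcard, Nat.card_congr (selfEquivOrbitsQuotientProd hfree), Nat.card_prod]
    exact dvd_mul_left _ _
  obtain ⟨e, he⟩ := hdvd
  obtain ⟨c, hcx, hcb⟩ := H66.Sharp.not_two_points hZ x b hxb
  have hΩ3 : 3 ≤ Fintype.card Ω := by
    have : ({x, b, c} : Finset Ω).card = 3 := by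
      rw [Finset.card_insert_of_notMem (by simp [hxb, hcx.symm]), Finset.card_pair hcb.symm]
    exact this ▸ Finset.card_le_univ _
  have he0 : e ≠ 0 := by
    intro h
    rw [h, mul_zero] at he
    omega
  have hbound : Fintype.card Ω - 2 ≤ 2 * Nat.card H := by
    rcases Nat.even_or_odd (Nat.card H) with hev | hodd
    · exact Cfsg.Agent.S0741.result hZ hxb hev
    · have : Nat.card F ≤ 2 * Nat.card H + 1 := kernel_bound_odd _ rfl hZ hxb hFle hconj hcomm hreg hodd
      omega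
  have he2 : e ≤ 2 := by nlinarith
  rcases (show e = 1 ∨ e = 2 by omega) with rfl | rfl
  · left; omega
  right
  have hΩd : Fintype.card Ω = 2 * Nat.card H + 2 := by omega
  refine ⟨hΩd, ?_⟩
  rcases Nat.even_or_odd (Nat.card H) with hev | hodd
  · obtain ⟨p, f, K, i1, i2, hp, hp2, hcK, hcΩ, hK⟩ := Cfsg.Agent.S0742.result hZ hxb hev
      (by rw [← hH]; omega)
    refine ⟨K, i1, i2, fun h => ?_, by rw [hcK, hcΩ], hK⟩
    have h2' : (ringChar K : ℕ) ∣ p ^ f := by
      rw [← hcK]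
      exact ringChar.dvd (Nat.cast_card_eq_zero K)
    rw [h] at h2'
    exact hp2 ((Nat.prime_dvd_prime_iff_eq Nat.prime_two hp).1 (Nat.prime_two.dvd_of_dvd_pow h2')).symm
  · haveI : IsSimpleGroup G := by
      haveI : Nontrivial G := by
        obtain ⟨g, hg, -⟩ := hZ.2.2.2.1
        exact ⟨g, 1, hg⟩
      refine ⟨fun N hN => or_iff_not_imp_left.2 fun hN1 => ?_⟩
      obtain ⟨hZN, h1', h2', h3', h4, h5, h6⟩ := normal_data hZ hxb hFle hconj hcomm hreg N hN1
      have hb := kernel_bound_odd _ rfl hZN hxb h1' h2' h3' h4 (Odd.of_dvd_nat hodd h6)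
      have hle := Nat.le_of_dvd hd0 h6
      have heq : Nat.card ↥(H ⊓ N) = Nat.card H := by
        rw [← card_pair_stab_normal]
        omega
      have hHN : H ≤ N := inf_eq_left.1 (Subgroup.eq_of_le_of_card_ge inf_le_left heq.ge)
      rw [Subgroup.eq_top_iff']
      intro g
      obtain ⟨n, hn1, hn2⟩ := (is_two_pretransitive_iff.1 hZN.2.1) hxb
        (show g • x ≠ g • b from fun h => hxb (MulAction.injective g h))
      have hn1' : (n : G) • x = g • x := hn1
      have hn2' : (n : G) • b = g • b := hn2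
      have hmem : (n : G)⁻¹ * g ∈ N := hHN (Subgroup.mem_inf.2
        ⟨mem_stabilizer_iff.2 (by rw [mul_smul, ← hn1', inv_smul_smul]),
         mem_stabilizer_iff.2 (by rw [mul_smul, ← hn2', inv_smul_smul])⟩)
      simpa using N.mul_mem n.2 hmem
    obtain ⟨hcyc, v, hv, hva, hvb, hinv⟩ := H66.Sharp.cyclic_inverted hZ hxb
    haveI := hcyc
    letI := IsCyclic.commGroup (α := H)
    obtain ⟨K, i1, i2, hK2, hcK, hK⟩ := half_PSL hZ hxb hΩd hva hvb
      (by rw [← pow_two, ← hv, pow_orderOf_eq_one])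
      (fun a ha b hb => congrArg Subtype.val (mul_comm (⟨a, ha⟩ : H) ⟨b, hb⟩)) hinv
    refine ⟨K, i1, i2, fun h => hK2 ?_, hcK, hK⟩
    have := ringChar.Nat.cast_ringChar (R := K)
    rw [h] at this
    simpa using this

/-- every element fixing three points is trivial -/
theorem triple_stab_eq_bot (h3 : ∀ g : G, ∀ a b c : Ω, a ≠ b → b ≠ c → a ≠ c →
    g • a = a → g • b = b → g • c = c → g = 1) (t : Fin 3 ↪ Ω) : stabilizer G t = ⊥ := by
  rw [Subgroup.eq_bot_iff_forall]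
  intro g hg
  have h : ∀ i, g • t i = t i := fun i => congrArg (fun f : Fin 3 ↪ Ω => f i) (mem_stabilizer_iff.1 hg)
  exact h3 g (t 0) (t 1) (t 2) (fun e => absurd (t.injective e) (by decide))
    (fun e => absurd (t.injective e) (by decide)) (fun e => absurd (t.injective e) (by decide)) (h 0) (h 1) (h 2)

end AbKernel
end H59
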