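import Cfsg.Agent.H59.AbKernel.Setup
import Cfsg.Agent.H12.Glauberman
import Cfsg.Agent.H12.Linear

/-!
Weights of the restrictions of characters to an abelian kernel.
-/

set_option autoImplicit false

open Cfsg
open scoped ComplexConjugate

namespace H59
namespace AbKernel

open MulAction

universe u

theorem weight_cases {ι : Type*} [DecidableEq ι] (Θ : Finset ι) (b : ι → ℤ) {d : ℕ}
    (horb : ∀ t ∈ Θ, ∃ O : Finset ι, O ⊆ Θ ∧ O.card = d ∧ ∀ x ∈ O, b x = b t)
    (hnn : ∀ t ∈ Θ, 0 ≤ b t) (hne : ∃ t ∈ Θ, b t ≠ 0) :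
    (∃ c : ℤ, 1 ≤ c ∧ ∀ t ∈ Θ, b t = c) ∨
      ((d : ℤ) * ((Θ.card : ℤ) - d) + d ≤
          ((Θ.card : ℤ) + 1) * (∑ t ∈ Θ, b t ^ 2) - (∑ t ∈ Θ, b t) ^ 2 ∧
        (((Θ.card : ℤ) + 1) * (∑ t ∈ Θ, b t ^ 2) - (∑ t ∈ Θ, b t) ^ 2 ≤
            (d : ℤ) * ((Θ.card : ℤ) - d) + d →
          (∑ t ∈ Θ, b t ^ 2) = d ∧ (∑ t ∈ Θ, b t) = d)) := by
  obtain ⟨t₀, ht₀, hmax⟩ := Finset.exists_max_image Θ b ⟨_, hne.choose_spec.1⟩
  have hc : 1 ≤ b t₀ := by
    obtain ⟨t, ht, ht'⟩ := hne
    have := hmax t ht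
    have := hnn t ht
    omega
  by_cases hconst : ∀ t ∈ Θ, b t = b t₀
  · exact Or.inl ⟨b t₀, hc, hconst⟩
  right
  push Not at hconst
  obtain ⟨t₁, ht₁, hne₁⟩ := hconst
  obtain ⟨A, hA⟩ : ∃ A : Finset ι, A = Θ.filter fun t => b t = b t₀ := ⟨_, rfl⟩
  have hAd : d ≤ A.card := by
    obtain ⟨O, hO, hOc, hOb⟩ := horb t₀ ht₀
    exact hOc ▸ Finset.card_le_card fun x hx => hA ▸ Finset.mem_filter.2 ⟨hO hx, hOb x hx⟩
  have hBd : d ≤ (Θ \ A).card := by
    obtain ⟨O, hO, hOc, hOb⟩ := horb t₁ ht₁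
    refine hOc ▸ Finset.card_le_card fun x hx => Finset.mem_sdiff.2 ⟨hO hx, fun h => hne₁ ?_⟩
    rw [hA, Finset.mem_filter] at h
    rw [← hOb x hx, h.2]
  have hAsub : A ⊆ Θ := hA ▸ Finset.filter_subset _ _
  have hsd : ((Θ \ A).card : ℤ) = (Θ.card : ℤ) - A.card := by
    rw [Finset.card_sdiff_of_subset hAsub, Nat.cast_sub (Finset.card_le_card hAsub)]
  -- twice the variance
  have hvar : ∑ t ∈ Θ, ∑ s ∈ Θ, (b t - b s) ^ 2 =
      2 * ((Θ.card : ℤ) * ∑ t ∈ Θ, b t ^ 2) - 2 * (∑ t ∈ Θ, b t) ^ 2 := by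
    simp only [sub_sq, Finset.sum_add_distrib, Finset.sum_sub_distrib, Finset.sum_const, nsmul_eq_mul,
      ← Finset.mul_sum, ← Finset.sum_mul]
    ring
  have hlow : 2 * ((A.card : ℤ) * (Θ \ A).card) ≤ ∑ t ∈ Θ, ∑ s ∈ Θ, (b t - b s) ^ 2 := by
    have h1 : ∀ t ∈ A, ((Θ \ A).card : ℤ) ≤ ∑ s ∈ Θ, (b t - b s) ^ 2 := by
      intro t ht
      refine le_trans ?_ (Finset.sum_le_sum_of_subset_of_nonneg (Finset.sdiff_subset (s := Θ) (t := A))
        fun s _ _ => sq_nonneg _)
      rw [Finset.card_eq_sum_ones, Nat.cast_sum]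
      refine Finset.sum_le_sum fun s hs => ?_
      rw [hA, Finset.mem_filter] at ht
      rw [Finset.mem_sdiff, hA, Finset.mem_filter, not_and] at hs
      have h0 : b t - b s ≠ 0 := fun e => hs.2 hs.1 (by rw [← ht.2]; linarith)
      have := sq_pos_of_ne_zero h0
      push_cast
      omega
    have h2 : ∀ t ∈ Θ \ A, (A.card : ℤ) ≤ ∑ s ∈ Θ, (b t - b s) ^ 2 := by
      intro t ht
      refine le_trans ?_ (Finset.sum_le_sum_of_subset_of_nonneg hAsub fun s _ _ => sq_nonneg _)
      rw [Finset.card_eq_sum_ones, Nat.cast_sum]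
      refine Finset.sum_le_sum fun s hs => ?_
      rw [hA, Finset.mem_filter] at hs
      rw [Finset.mem_sdiff, hA, Finset.mem_filter, not_and] at ht
      have h0 : b t - b s ≠ 0 := fun e => ht.2 ht.1 (by rw [← hs.2]; linarith)
      have := sq_pos_of_ne_zero h0
      push_cast
      omega
    rw [← Finset.sum_sdiff hAsub]
    have e1 := Finset.sum_le_sum h1
    have e2 := Finset.sum_le_sum h2
    simp only [Finset.sum_const, nsmul_eq_mul] at e1 e2
    linarith
  have hsq : (A.card : ℤ) * b t₀ ^ 2 + ∑ t ∈ Θ \ A, b t ^ 2 = ∑ t ∈ Θ, b t ^ 2 := by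
    rw [← Finset.sum_sdiff hAsub, add_comm,
      Finset.sum_congr (s₁ := A) rfl (g := fun _ => b t₀ ^ 2) fun t ht => by
        rw [hA, Finset.mem_filter] at ht; rw [ht.2]]
    simp
  have hrest : 0 ≤ ∑ t ∈ Θ \ A, b t ^ 2 := Finset.sum_nonneg fun _ _ => sq_nonneg _
  have hprod : 0 ≤ ((A.card : ℤ) - d) * (((Θ \ A).card : ℤ) - d) :=
    mul_nonneg (by omega) (by omega)
  have hc2 : (1 : ℤ) ≤ b t₀ ^ 2 := one_le_pow₀ hc
  have hAc : (d : ℤ) ≤ (A.card : ℤ) * b t₀ ^ 2 :=
    (Int.ofNat_le.2 hAd).trans (le_mul_of_one_le_right (by positivity) hc2)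
  refine ⟨by rw [hsd] at hprod hlow; linarith, fun hle => ?_⟩
  have hQ : ∑ t ∈ Θ, b t ^ 2 = d := by rw [hsd] at hprod hlow; linarith
  refine ⟨hQ, ?_⟩
  have hAcard : (A.card : ℤ) = d := by
    have h5 : (A.card : ℤ) ≤ A.card * b t₀ ^ 2 := le_mul_of_one_le_right (by positivity) hc2
    omega
  have h01 : ∀ t ∈ Θ, b t ^ 2 = b t := by
    intro t ht
    have hone : b t₀ ^ 2 = 1 := by
      rw [hAcard] at hsq
      have hd0 : (0 : ℤ) < d ∨ d = 0 := (Nat.eq_zero_or_pos d).symm.imp Int.natCast_pos.2 id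
      rcases hd0 with h | h
      · have : (d : ℤ) * b t₀ ^ 2 ≤ d * 1 := by linarith
        exact le_antisymm (le_of_mul_le_mul_left this h) hc2
      · subst h
        have hA0 : A.card = 0 := by omega
        have : t₀ ∈ A := hA ▸ Finset.mem_filter.2 ⟨ht₀, rfl⟩
        rw [Finset.card_eq_zero.1 hA0] at this
        exact absurd this (Finset.notMem_empty _)
    have hb : b t₀ ≤ 1 := by nlinarith
    have h6 := hmax t ht
    have h7 := hnn t ht
    have h8 : b t = 0 ∨ b t = 1 := by omega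
    rcases h8 with h | h <;> rw [h] <;> norm_num
  rw [← hQ]
  exact (Finset.sum_congr rfl h01).symm

/-- a function orthogonal to all linear characters of an abelian group vanishes -/
theorem eq_zero_of_lin {K : Type u} [Group K] [Fintype K] (hcomm : ∀ x y : K, x * y = y * x)
    {v : K → ℂ} (h0 : ∀ f : K →* ℂˣ, ∑ x : K, (f x : ℂ) * v x = 0) : v = 0 := by
  refine H12.eq_zero_of_sum_mul_irr_eq_zero (fun x y => ?_) fun χ => ?_
  · rw [hcomm y x, mul_inv_cancel_right]
  · obtain ⟨f, hf⟩ := H12.exists_monoidHom_of_apply_one_eq_one (H12.isCharacter_irr χ)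
      (H12.irr_apply_one_of_comm hcomm χ)
    rw [← h0 f]
    refine Finset.sum_congr rfl fun x _ => ?_
    rw [← hf, mul_comm]

theorem card_irr_comm {K : Type u} [Group K] [Fintype K] (hcomm : ∀ x y : K, x * y = y * x) :
    Fintype.card (IrrCharacter K) = Nat.card K := by
  have h := H12.sum_degree_sq (G := K)
  simp only [H12.irr_apply_one_of_comm hcomm, one_pow, Finset.sum_const, Finset.card_univ,
    nsmul_eq_mul, mul_one, Nat.cast_inj] at h
  exact h

variable {G : Type u} {Ω : Type*} [Group G] [Fintype G] [MulAction G Ω]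
variable {a b : Ω} {U : Subgroup G} (S : Setup G a b U)

include S

/-- the orbits of the two-point stabiliser on the non-trivial characters of the kernel -/
theorem exists_orbit [Fintype U] (θ : IrrCharacter U) (hθ : θ ≠ H12.oneIrr U) (χ : IrrCharacter G) :
    ∃ O : Finset (IrrCharacter U), O.card = Nat.card ↥(stabilizer G a ⊓ stabilizer G b) ∧
      ∀ x ∈ O, x ≠ H12.oneIrr U ∧
        H12.Glauberman.mult U χ x = H12.Glauberman.mult U χ θ := by
  classical
  let c : ↥(stabilizer G a ⊓ stabilizer G b) → (U ≃* U) := fun h =>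
    { toFun := fun u => ⟨(h : G) * u * (h : G)⁻¹, S.conj h h.2.1 u u.2⟩
      invFun := fun u => ⟨(h : G)⁻¹ * u * h, by
        have := S.conj (h : G)⁻¹ ((stabilizer G a).inv_mem h.2.1) u u.2
        simpa using this⟩
      left_inv := fun u => Subtype.ext (by simp [mul_assoc])
      right_inv := fun u => Subtype.ext (by simp [mul_assoc])
      map_mul' := fun u v => Subtype.ext (by simp [mul_assoc]) }
  haveI : Fintype ↥(stabilizer G a ⊓ stabilizer G b) := Fintype.ofFinite _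
  obtain ⟨f, hf⟩ := H12.exists_monoidHom_of_apply_one_eq_one (H12.isCharacter_irr θ)
    (H12.irr_apply_one_of_comm (fun x y : U => Subtype.ext (S.comm x x.2 y y.2)) θ)
  have hinj : Function.Injective (fun h => H12.irrCongr (c h) θ) := by
    intro h h' e
    by_contra hne
    apply hθ
    let k : U → U := fun u => c h u * (c h' u)⁻¹
    have hk : Function.Injective k := by
      intro u v ek
      by_contra huv
      apply hne
      have ek' : c h u * (c h' u)⁻¹ = c h v * (c h' v)⁻¹ := ek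
      have hcomm' : ∀ x y : U, x * y = y * x := fun x y => Subtype.ext (S.comm x x.2 y y.2)
      have e2 : c h (v⁻¹ * u) = c h' (v⁻¹ * u) := by
        rw [map_mul, map_mul, map_inv, map_inv]
        have e3 := congrArg (fun x => (c h v)⁻¹ * x * c h' u) ek'
        simp only [inv_mul_cancel_left, mul_assoc, inv_mul_cancel, mul_one] at e3
        rw [e3]
      refine Subtype.ext (conj_injective S h.2 h'.2 (v⁻¹ * u : U).2 ?_ (congrArg Subtype.val e2))
      exact fun e0 => huv (inv_mul_eq_one.1 (Subtype.ext e0)).symm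
    refine Subtype.ext (funext fun u => ?_)
    obtain ⟨v, rfl⟩ := (Finite.injective_iff_surjective.1 hk) u
    have e4 : (θ : U → ℂ) (c h v) = (θ : U → ℂ) (c h' v) := by
      rw [← H12.irrCongr_apply, ← H12.irrCongr_apply]
      exact congrArg (fun x : IrrCharacter U => (x : U → ℂ) v) e
    rw [H12.oneIrr_apply, ← hf]
    rw [← hf] at e4
    show (f (c h v * (c h' v)⁻¹) : ℂ) = 1
    rw [map_mul, map_inv, Units.val_mul, Units.val_inv_eq_inv_val, show (f (c h v) : ℂ) = f (c h' v) from e4,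
      mul_inv_cancel₀ (Units.ne_zero _)]
  refine ⟨Finset.univ.image fun h => H12.irrCongr (c h) θ, ?_, ?_⟩
  · rw [Finset.card_image_of_injective _ hinj, Finset.card_univ, Nat.card_eq_fintype_card]
  · intro x hx
    obtain ⟨h, -, rfl⟩ := Finset.mem_image.1 hx
    refine ⟨fun e => hθ ?_, ?_⟩
    · apply (H12.irrCongr (c h)).injective
      rw [e]
      exact Subtype.ext (funext fun u => by rw [H12.irrCongr_apply, H12.oneIrr_apply, H12.oneIrr_apply])
    · have hχ : H12.irrCongr (MulAut.conj (h : G)) χ = χ := Subtype.ext (funext fun g => by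
        rw [H12.irrCongr_apply]; exact H12.irr_isClassFunction χ g h)
      conv_lhs => rw [← hχ]
      exact H12.Glauberman.mult_comp U (MulAut.conj (h : G)) (c h) (fun u => rfl) χ θ

end AbKernel
end H59
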