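import Cfsg.Agent.H59.AbKernel.Classes
import Cfsg.Agent.H59.AbKernel.Chars
import Cfsg.Agent.H59.AbKernel.Weights

/-!
An abelian kernel forces a large two-point stabiliser: `|U| - 1 ≤ 2 |H|`.
-/

set_option autoImplicit false

open Cfsg
open scoped ComplexConjugate

namespace H59
namespace AbKernel

open MulAction

universe u

variable {G : Type u} {Ω : Type*} [Group G] [Fintype G] [MulAction G Ω] [Fintype Ω]
variable {a b : Ω} {U : Subgroup G} (S : Setup G a b U)

include S

open scoped Classical in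
theorem classInner_pChar_pChar [Fintype ↥(stabilizer G a ⊓ stabilizer G b)] [Fintype U]
    (f g : ↥(stabilizer G a ⊓ stabilizer G b) →* ℂˣ) :
    classInner (pChar S f) (pChar S g) = (if f = g then 1 else 0) + (if f = g⁻¹ then 1 else 0) := by
  have hsum : ∀ e : ↥(stabilizer G a ⊓ stabilizer G b) →* ℂˣ,
      ∑ h, (f h : ℂ) * conj (e h : ℂ) =
        (Nat.card ↥(stabilizer G a ⊓ stabilizer G b) : ℂ) * (if f = e then 1 else 0) := by
    intro e
    have h1 : classInner (H12.linIrr f : ↥(stabilizer G a ⊓ stabilizer G b) → ℂ) (H12.linIrr e) =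
        if f = e then 1 else 0 := by
      split_ifs with h
      · rw [h]; exact H12.classInner_irr_self _
      · exact H12.classInner_irr_ne fun e' => h (H12.linIrr_injective e')
    rw [← h1, H12.classInner_def, ← mul_assoc,
      mul_inv_cancel₀ (Nat.cast_ne_zero.2 Nat.card_pos.ne'), one_mul]
    rfl
  rw [classInner_pChar S f (H12.IsCharacter.isClassFunction (pChar_isCharacter S g))]
  have hU : ∑ u : U, conj (pChar S g u) = 2 * (Nat.card U : ℂ) := by
    rw [← Finset.add_sum_erase _ _ (Finset.mem_univ (1 : U)), Subgroup.coe_one, pChar_one, Complex.conj_natCast,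
      Finset.sum_congr rfl (g := fun _ => (1 : ℂ)) (fun u hu => by
        rw [pChar_U S g u.2 fun e => (Finset.mem_erase.1 hu).1 (Subtype.ext e), map_one]),
      Finset.sum_const, Finset.card_erase_of_mem (Finset.mem_univ _), Finset.card_univ,
      ← Nat.card_eq_fintype_card, nsmul_eq_mul, mul_one, Nat.cast_sub Nat.card_pos]
    push_cast
    ring
  have hg : ∀ h : ↥(stabilizer G a ⊓ stabilizer G b), conj (g⁻¹ h : ℂ) = conj (g h⁻¹ : ℂ) := fun h => by
    rw [MonoidHom.inv_apply, map_inv]
  have hH : ∑ h ∈ (Finset.univ : Finset ↥(stabilizer G a ⊓ stabilizer G b)).erase 1,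
      (f h : ℂ) * conj (pChar S g h) =
      (Nat.card ↥(stabilizer G a ⊓ stabilizer G b) : ℂ) *
        ((if f = g then 1 else 0) + (if f = g⁻¹ then 1 else 0)) - 2 := by
    rw [mul_add, ← hsum g, ← hsum g⁻¹, ← Finset.sum_add_distrib,
      Finset.sum_congr rfl (g := fun h => (f h : ℂ) * conj (g h : ℂ) + (f h : ℂ) * conj (g⁻¹ h : ℂ))
        (fun h hh => by rw [pChar_H S g h (Finset.mem_erase.1 hh).1, map_add, mul_add, hg]),
      Finset.sum_erase_eq_sub (Finset.mem_univ _)]
    simp only [map_one, Units.val_one, one_mul]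
    ring
  rw [hU, hH]
  have h1 : (Nat.card U : ℂ) ≠ 0 := Nat.cast_ne_zero.2 Nat.card_pos.ne'
  have h2 : (Nat.card ↥(stabilizer G a ⊓ stabilizer G b) : ℂ) ≠ 0 := Nat.cast_ne_zero.2 Nat.card_pos.ne'
  field_simp
  ring

theorem classInner_pChar_one_one :
    classInner (pChar S 1) (fun _ : G => (1 : ℂ)) = 1 := by
  classical
  rw [pChar, H12.classInner_indFun _ _ (fun _ _ => rfl), H12.classInner_def]
  simp only [MonoidHom.one_comp, MonoidHom.one_apply, Units.val_one, map_one, mul_one, Finset.sum_const,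
    Finset.card_univ, nsmul_eq_mul, ← Nat.card_eq_fintype_card]
  exact inv_mul_cancel₀ (Nat.cast_ne_zero.2 Nat.card_pos.ne')

theorem eq_one_of_eq_inv {f : ↥(stabilizer G a ⊓ stabilizer G b) →* ℂˣ} (h : f = f⁻¹) : f = 1 := by
  refine MonoidHom.ext fun x => ?_
  have h2 : f x ^ 2 = 1 := by
    rw [sq]; nth_rw 2 [h]
    rw [MonoidHom.inv_apply, mul_inv_cancel]
  have h3 : orderOf (f x) ∣ 1 := by
    rw [← S.odd.coprime_two_left]
    exact Nat.dvd_gcd (orderOf_dvd_of_pow_eq_one h2)
      ((orderOf_map_dvd f x).trans (orderOf_dvd_natCard x))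
  exact orderOf_eq_one_iff.1 (Nat.dvd_one.1 h3)

open scoped Classical in
/-- the irreducible characters with invariant vectors for the kernel -/
theorem exists_special [Fintype U] (hU : 2 ≤ Nat.card U) :
    ∃ E : Finset (IrrCharacter G),
      2 * E.card = Nat.card ↥(stabilizer G a ⊓ stabilizer G b) + 3 ∧
      (∀ χ : IrrCharacter G, χ ∉ E → ∀ f : ↥(stabilizer G a ⊓ stabilizer G b) →* ℂˣ,
        classInner (pChar S f) (χ : G → ℂ) = 0) ∧
      (∀ χ ∈ E, ∃ e : ℂ, ∀ u ∈ U, u ≠ 1 → (χ : G → ℂ) u = e) ∧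
      (∑ χ ∈ E, ∑ u ∈ (Finset.univ : Finset U).erase 1, (χ : G → ℂ) u * conj ((χ : G → ℂ) u)) =
        ((Nat.card U : ℂ) - 1) * ((E.card : ℂ) - 1) ∧
      ∀ Y : G → ℂ, IsClassFunction G Y → ∀ hc : (∀ f, classInner (pChar S f) Y = 1),
        ∀ k : IrrCharacter G → ℕ, (∀ χ : IrrCharacter G, classInner Y (χ : G → ℂ) = k χ) →
          1 ≤ k (H12.oneIrr G) → 1 + (E.card - 2) * (Nat.card U + 1) ≤ ∑ χ ∈ E, k χ * H12.degree (χ : G → ℂ) := by
  haveI : Fintype ↥(stabilizer G a ⊓ stabilizer G b) := Fintype.ofFinite _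
  have hcomm : ∀ x y : ↥(stabilizer G a ⊓ stabilizer G b), x * y = y * x := fun x y =>
    Subtype.ext (H_comm S x.2 y.2)
  haveI : Fintype (↥(stabilizer G a ⊓ stabilizer G b) →* ℂˣ) :=
    Fintype.ofInjective _ H12.linIrr_injective
  have hcardF : Fintype.card (↥(stabilizer G a ⊓ stabilizer G b) →* ℂˣ) =
      Nat.card ↥(stabilizer G a ⊓ stabilizer G b) := by
    rw [← Nat.card_eq_fintype_card, H12.card_monoidHom_units, Subgroup.index_eq_card,
      ← card_irr_comm hcomm, ← Nat.card_eq_fintype_card,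
      ← Nat.card_congr (Equiv.subtypeUnivEquiv (p := fun χ : IrrCharacter ↥(stabilizer G a ⊓ stabilizer G b) =>
        (χ : ↥(stabilizer G a ⊓ stabilizer G b) → ℂ) 1 = 1) (H12.irr_apply_one_of_comm hcomm)),
      H12.card_linear_irr, Subgroup.index_eq_card]
  -- the Steinberg character
  have h11 : classInner (pChar S 1) (pChar S 1) = 2 := by
    rw [classInner_pChar_pChar, if_pos rfl, if_pos (by ext; simp)]; norm_num
  have hirr1 : IsIrrCharacter G (fun g => pChar S 1 g - 1) := by
    have hcf : IsClassFunction G (fun g => pChar S 1 g - 1) := fun x y => by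
      show _ - _ = _ - _
      rw [H12.IsCharacter.isClassFunction (pChar_isCharacter S 1) x y]
    have hci : ∀ ψ : G → ℂ, classInner (fun g => pChar S 1 g - 1) ψ =
        classInner (pChar S 1) ψ - classInner (fun _ : G => (1 : ℂ)) ψ := fun ψ =>
      H12.classInner_sub_left (pChar S 1) (fun _ => 1) ψ
    refine H12.isIrrCharacter_of_classInner_self_eq_one (H12.isCharacter_iff.2 ⟨hcf, fun χ => ?_⟩) ?_
    · rw [hci]
      obtain ⟨n, hn⟩ := H12.IsCharacter.classInner_nat (pChar_isCharacter S 1) (H12.isCharacter_irr χ)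
      rw [hn]
      by_cases h : χ = H12.oneIrr G
      · subst h
        have h1 : classInner (fun _ : G => (1 : ℂ)) (H12.oneIrr G : G → ℂ) = 1 :=
          H12.classInner_irr_self (H12.oneIrr G)
        have hn1 : classInner (pChar S 1) (H12.oneIrr G : G → ℂ) = 1 := classInner_pChar_one_one S
        rw [hn] at hn1
        exact ⟨0, by rw [h1, hn1, sub_self, Nat.cast_zero]⟩
      · have h1 : classInner (fun _ : G => (1 : ℂ)) (χ : G → ℂ) = 0 :=
          H12.classInner_irr_ne (χ := H12.oneIrr G) (ψ := χ) (Ne.symm h)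
        exact ⟨n, by rw [h1, sub_zero]⟩
    · rw [hci, ← H12.conj_classInner, ← H12.conj_classInner (fun g => pChar S 1 g - 1) (fun _ : G => (1 : ℂ)),
        hci, hci, h11, classInner_pChar_one_one S]
      have : classInner (fun _ : G => (1 : ℂ)) (pChar S 1) = 1 := by
        rw [← H12.conj_classInner, classInner_pChar_one_one S, map_one]
      rw [this, show classInner (fun _ : G => (1 : ℂ)) (fun _ : G => (1 : ℂ)) = 1 from
        H12.classInner_irr_self (H12.oneIrr G)]
      simp [map_ofNat]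
      norm_num
  obtain ⟨st, hst⟩ : ∃ st : IrrCharacter G, (st : G → ℂ) = fun g => pChar S 1 g - 1 := ⟨⟨_, hirr1⟩, rfl⟩
  -- the irreducible induced characters
  have hirr : ∀ f, f ≠ 1 → IsIrrCharacter G (pChar S f) := fun f hf => by
    refine H12.isIrrCharacter_of_classInner_self_eq_one (pChar_isCharacter S f) ?_
    rw [classInner_pChar_pChar, if_pos rfl, if_neg (fun e => hf (eq_one_of_eq_inv S e)), add_zero]
  obtain ⟨P, hP⟩ : ∃ P : (↥(stabilizer G a ⊓ stabilizer G b) →* ℂˣ) → IrrCharacter G,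
      ∀ f, f ≠ 1 → (P f : G → ℂ) = pChar S f :=
    ⟨fun f => if h : f = 1 then H12.oneIrr G else ⟨_, hirr f h⟩, fun f hf => by simp [hf]⟩
  have hPeq : ∀ f g, f ≠ 1 → g ≠ 1 → (P f = P g ↔ f = g ∨ f = g⁻¹) := by
    intro f g hf hg
    have h1 := classInner_pChar_pChar S f g
    rw [← hP f hf, ← hP g hg, H12.classInner_irr] at h1
    constructor
    · intro e
      by_contra hne
      push Not at hne
      rw [if_pos e, if_neg hne.1, if_neg hne.2] at h1
      norm_num at h1
    · intro e
      by_contra hne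
      rw [if_neg hne] at h1
      rcases e with e | e
      · rw [if_pos e] at h1
        split_ifs at h1 <;> norm_num at h1
      · rw [if_pos e] at h1
        split_ifs at h1 <;> norm_num at h1
  obtain ⟨F, hF⟩ : ∃ F : Finset (↥(stabilizer G a ⊓ stabilizer G b) →* ℂˣ), F = Finset.univ.erase 1 := ⟨_, rfl⟩
  have hFm : ∀ f, f ∈ F ↔ f ≠ 1 := fun f => by rw [hF]; simp
  have himg : (F.image P).card * 2 = F.card := by
    rw [Finset.card_eq_sum_card_fiberwise (f := P) (s := F) (t := F.image P)
      (fun f hf => Finset.mem_coe.2 (Finset.mem_image_of_mem _ hf)), Finset.sum_const_nat]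
    intro x hx
    obtain ⟨f, hf, rfl⟩ := Finset.mem_image.1 hx
    rw [hFm] at hf
    rw [← Finset.card_pair (show f ≠ f⁻¹ from fun e => hf (eq_one_of_eq_inv S e))]
    congr 1
    ext g
    simp only [Finset.mem_filter, hFm, Finset.mem_insert, Finset.mem_singleton]
    constructor
    · rintro ⟨hg, e⟩
      exact (hPeq g f hg hf).1 e
    · rintro (rfl | rfl)
      · exact ⟨hf, rfl⟩
      · have hf2 : f⁻¹ ≠ 1 := fun e => hf (MonoidHom.ext fun x => by
          have := DFunLike.congr_fun e x; simpa using this)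
        exact ⟨hf2, (hPeq _ _ hf2 hf).2 (Or.inr rfl)⟩
  have hst1 : st ≠ H12.oneIrr G := fun e => by
    have := congrFun (congrArg Subtype.val e) 1
    rw [hst, H12.oneIrr_apply] at this
    simp only [pChar_one, Nat.cast_add, Nat.cast_one, add_sub_cancel_right] at this
    have hq : Nat.card U = 1 := by exact_mod_cast this
    omega
  have hPone : ∀ f ∈ F, P f ≠ H12.oneIrr G ∧ P f ≠ st := by
    intro f hf
    rw [hFm] at hf
    constructor
    · intro e
      have h1 : classInner (pChar S f) (fun _ : G => (1 : ℂ)) = 1 := by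
        rw [← hP f hf, e]; exact H12.classInner_irr_self (H12.oneIrr G)
      have h2 := congrFun (congrArg Subtype.val e) 1
      rw [hP f hf, pChar_one, H12.oneIrr_apply] at h2
      have : Nat.card U + 1 = 1 := by exact_mod_cast h2
      have := Nat.card_pos (α := U)
      omega
    · intro e
      have h2 := congrFun (congrArg Subtype.val e) 1
      rw [hP f hf, hst] at h2
      simp only [pChar_one] at h2
      norm_num at h2
  have hnot1 : H12.oneIrr G ∉ F.image P := fun h => by
    obtain ⟨f, hf, e⟩ := Finset.mem_image.1 h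
    exact (hPone f hf).1 e
  have hnot2 : st ∉ F.image P := fun h => by
    obtain ⟨f, hf, e⟩ := Finset.mem_image.1 h
    exact (hPone f hf).2 e
  obtain ⟨E, hE⟩ : ∃ E, E = insert (H12.oneIrr G) (insert st (F.image P)) := ⟨_, rfl⟩
  have hFc : F.card + 1 = Nat.card ↥(stabilizer G a ⊓ stabilizer G b) := by
    rw [hF, Finset.card_erase_of_mem (Finset.mem_univ _), Finset.card_univ, hcardF]
    have := S.three
    omega
  have hEc : E.card = (F.image P).card + 2 := by
    rw [hE, Finset.card_insert_of_notMem (by simp [hst1.symm, hnot1]), Finset.card_insert_of_notMem hnot2]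
  have hWP : ∀ x ∈ F.image P, ∀ u ∈ U, u ≠ 1 → (x : G → ℂ) u = 1 := by
    intro x hx u hu hu1
    obtain ⟨f, hf, rfl⟩ := Finset.mem_image.1 hx
    rw [hP f ((hFm f).1 hf), pChar_U S f hu hu1]
  refine ⟨E, by omega, ?_, ?_, ?_, ?_⟩
  · intro χ hχ f
    rw [hE, Finset.mem_insert, Finset.mem_insert, not_or, not_or] at hχ
    by_cases hf : f = 1
    · subst hf
      have h2 : classInner (st : G → ℂ) (χ : G → ℂ) = 0 := H12.classInner_irr_ne (Ne.symm hχ.2.1)
      rw [hst, show (fun g => pChar S 1 g - 1) = pChar S 1 - (fun _ : G => (1 : ℂ)) from rfl,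
        H12.classInner_sub_left, show classInner (fun _ : G => (1 : ℂ)) (χ : G → ℂ) = 0 from
          H12.classInner_irr_ne (χ := H12.oneIrr G) (Ne.symm hχ.1), sub_zero] at h2
      exact h2
    · rw [← hP f hf]
      exact H12.classInner_irr_ne fun e => hχ.2.2 (e ▸ Finset.mem_image_of_mem P ((hFm f).2 hf))
  · intro χ hχ
    rw [hE, Finset.mem_insert, Finset.mem_insert] at hχ
    rcases hχ with rfl | rfl | hχ
    · exact ⟨1, fun u _ _ => rfl⟩
    · exact ⟨0, fun u hu hu1 => by rw [hst]; simp [pChar_U S 1 hu hu1]⟩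
    · exact ⟨1, hWP χ hχ⟩
  · have hc1 : ∀ x : IrrCharacter G, (∀ u ∈ U, u ≠ 1 → (x : G → ℂ) u = 1) →
        ∑ u ∈ (Finset.univ : Finset U).erase 1, (x : G → ℂ) u * conj ((x : G → ℂ) u) = (Nat.card U : ℂ) - 1 := by
      intro x hx
      rw [Finset.sum_congr rfl (g := fun _ => (1 : ℂ)) (fun u hu => by
        rw [hx u u.2 fun e => (Finset.mem_erase.1 hu).1 (Subtype.ext e), map_one, one_mul]),
        Finset.sum_const, Finset.card_erase_of_mem (Finset.mem_univ _), Finset.card_univ,
        ← Nat.card_eq_fintype_card, nsmul_eq_mul, mul_one, Nat.cast_sub Nat.card_pos]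
      simp
    have hB : ∑ u ∈ (Finset.univ : Finset U).erase 1, (st : G → ℂ) u * conj ((st : G → ℂ) u) = 0 := by
      refine Finset.sum_eq_zero fun u hu => ?_
      rw [hst]
      simp [pChar_U S 1 u.2 fun e => (Finset.mem_erase.1 hu).1 (Subtype.ext e)]
    rw [hEc, hE, Finset.sum_insert (by simp [hst1.symm, hnot1]), Finset.sum_insert hnot2,
      hc1 (H12.oneIrr G) (fun u _ _ => rfl), hB, Finset.sum_congr rfl (fun x hx => hc1 x (hWP x hx)),
      Finset.sum_const, nsmul_eq_mul]
    push_cast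
    ring
  · intro Y hY hc k hk hk1
    have hkP : ∀ x ∈ F.image P, k x * H12.degree (x : G → ℂ) = Nat.card U + 1 := by
      intro x hx
      obtain ⟨f, hf, rfl⟩ := Finset.mem_image.1 hx
      have hf' := (hFm f).1 hf
      have h1 := hk (P f)
      rw [hP f hf', ← H12.conj_classInner, hc f, map_one] at h1
      have h2 := H12.irr_apply_one (P f)
      rw [hP f hf', pChar_one, ← hP f hf'] at h2
      rw [show k (P f) = 1 by exact_mod_cast h1.symm, one_mul]
      exact_mod_cast h2.symm
    rw [hEc, hE, Finset.sum_insert (by simp [hst1.symm, hnot1]), Finset.sum_insert hnot2,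
      Finset.sum_congr rfl hkP, Finset.sum_const, smul_eq_mul, Nat.add_sub_cancel]
    have := Nat.le_mul_of_pos_right (k (H12.oneIrr G)) (H12.irr_degree_pos (H12.oneIrr G))
    omega

end AbKernel
end H59
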