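import Mathlib

/-!
Doubly transitive groups in which only the identity fixes three points, the kernel of a point
stabiliser is abelian and all elements interchanging two points are involutions: basic facts.
-/

set_option autoImplicit false

namespace H59
namespace AbKernel

open MulAction

variable {G Ω : Type*} [Group G] [MulAction G Ω]

/-- the configuration -/
structure Setup (G : Type*) {Ω : Type*} [Group G] [MulAction G Ω] (a b : Ω) (U : Subgroup G) :
    Prop where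
  h2 : IsMultiplyPretransitive G Ω 2
  h3 : ∀ g : G, ∀ x y z : Ω, x ≠ y → y ≠ z → x ≠ z → g • x = x → g • y = y → g • z = z → g = 1
  ne : a ≠ b
  le : U ≤ stabilizer G a
  conj : ∀ g : G, g • a = a → ∀ u ∈ U, g * u * g⁻¹ ∈ U
  comm : ∀ u ∈ U, ∀ v ∈ U, u * v = v * u
  reg : ∀ y z : Ω, y ≠ a → z ≠ a → ∃! u : U, (u : G) • y = z
  swap : ∀ g : G, g • a = b → g • b = a → g * g = 1
  odd : Odd (Nat.card ↥(stabilizer G a ⊓ stabilizer G b))
  three : 3 ≤ Nat.card ↥(stabilizer G a ⊓ stabilizer G b)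

variable {a b : Ω} {U : Subgroup G} (S : Setup G a b U)

include S

theorem pair {x y x' y' : Ω} (h : x ≠ y) (h' : x' ≠ y') :
    ∃ g : G, g • x = x' ∧ g • y = y' :=
  (is_two_pretransitive_iff.1 S.h2) h h'

theorem fix_a {u : G} (hu : u ∈ U) : u • a = a := S.le hu

theorem move {u : G} (hu : u ∈ U) {c : Ω} (hc : c ≠ a) : u • c ≠ a := fun h =>
  hc (by rw [← inv_smul_smul u c, h]; exact fix_a S (U.inv_mem hu))

theorem free {u : G} (hu : u ∈ U) {c : Ω} (hc : c ≠ a) (h : u • c = c) : u = 1 :=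
  congrArg Subtype.val ((S.reg c c hc hc).unique (y₁ := ⟨u, hu⟩) (y₂ := 1) h (one_smul G c))

theorem fix_only {u : G} (hu : u ∈ U) (h1 : u ≠ 1) {c : Ω} (h : u • c = c) : c = a :=
  by_contra fun hc => h1 (free S hu hc h)

theorem mem_H {g : G} : g ∈ stabilizer G a ⊓ stabilizer G b ↔ g • a = a ∧ g • b = b := Iff.rfl

theorem fix_H {h : G} (hh : h ∈ stabilizer G a ⊓ stabilizer G b) (h1 : h ≠ 1) {c : Ω}
    (hc : h • c = c) : c = a ∨ c = b := by
  by_contra hcon
  push Not at hcon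
  exact h1 (S.h3 h a b c S.ne hcon.2.symm hcon.1.symm hh.1 hh.2 hc)

theorem inter {g : G} (hg : g ∈ U) (hg' : g ∈ stabilizer G a ⊓ stabilizer G b) : g = 1 :=
  free S hg S.ne.symm hg'.2

/-- any element interchanging two points is an involution -/
theorem swap_sq {x y : Ω} (hxy : x ≠ y) {g : G} (h1 : g • x = y) (h2 : g • y = x) : g * g = 1 := by
  obtain ⟨t, t1, t2⟩ := pair S hxy S.ne
  have h := S.swap (t * g * t⁻¹)
    (by rw [mul_smul, mul_smul, ← t1, inv_smul_smul, h1, t2])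
    (by rw [mul_smul, mul_smul, ← t2, inv_smul_smul, h2, t1])
  rw [show t * g * t⁻¹ * (t * g * t⁻¹) = t * (g * g) * t⁻¹ by group] at h
  exact conj_eq_one_iff.1 h

theorem exists_swap {x y : Ω} (hxy : x ≠ y) : ∃ g : G, g • x = y ∧ g • y = x := pair S hxy hxy.symm

theorem inverted {w : G} (wa : w • a = b) (wb : w • b = a) {h : G}
    (hh : h ∈ stabilizer G a ⊓ stabilizer G b) : w * h * w⁻¹ = h⁻¹ := by
  have e := S.swap (w * h) (by rw [mul_smul, show h • a = a from hh.1, wa])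
    (by rw [mul_smul, show h • b = b from hh.2, wb])
  rw [inv_eq_of_mul_eq_one_right (S.swap w wa wb)]
  exact eq_inv_of_mul_eq_one_left (by rw [← e]; group)

theorem H_comm {x y : G} (hx : x ∈ stabilizer G a ⊓ stabilizer G b)
    (hy : y ∈ stabilizer G a ⊓ stabilizer G b) : x * y = y * x := by
  obtain ⟨w, wa, wb⟩ := exists_swap S S.ne
  have e1 := inverted S wa wb (mul_mem hx hy)
  have e2 : w * (x * y) * w⁻¹ = x⁻¹ * y⁻¹ := by
    rw [← inverted S wa wb hx, ← inverted S wa wb hy]; group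
  rw [e2, ← mul_inv_rev, inv_inj] at e1
  exact e1.symm

/-- fusion in a two-point stabiliser -/
theorem fusion_H {g x : G} (hx : x ∈ stabilizer G a ⊓ stabilizer G b) (hx1 : x ≠ 1)
    (hy : g * x * g⁻¹ ∈ stabilizer G a ⊓ stabilizer G b) : g * x * g⁻¹ = x ∨ g * x * g⁻¹ = x⁻¹ := by
  have hne : g * x * g⁻¹ ≠ 1 := fun h => hx1 (conj_eq_one_iff.1 h)
  have ha : g • a = a ∨ g • a = b := fix_H S hy hne (by
    rw [mul_smul, mul_smul, inv_smul_smul, show x • a = a from hx.1])
  have hb : g • b = a ∨ g • b = b := fix_H S hy hne (by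
    rw [mul_smul, mul_smul, inv_smul_smul, show x • b = b from hx.2])
  rcases ha with ha | ha <;> rcases hb with hb | hb
  · exact absurd (MulAction.injective g (ha.trans hb.symm)) S.ne
  · exact Or.inl (by rw [H_comm S (mem_H S |>.2 ⟨ha, hb⟩) hx, mul_inv_cancel_right])
  · exact Or.inr (inverted S ha hb hx)
  · exact absurd (MulAction.injective g (ha.trans hb.symm)) S.ne

theorem fusion_U {g u : G} (hu : u ∈ U) (hu1 : u ≠ 1) (h : g * u * g⁻¹ ∈ U) : g • a = a := by
  refine fix_only S h (fun e => hu1 (conj_eq_one_iff.1 e)) ?_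
  rw [mul_smul, mul_smul, inv_smul_smul, fix_a S hu]

theorem exists_factor {l : G} (hl : l • a = a) :
    ∃ u ∈ U, ∃ h ∈ stabilizer G a ⊓ stabilizer G b, l = u * h := by
  have hlb : l • b ≠ a := fun e => S.ne (MulAction.injective l (hl.trans e.symm))
  obtain ⟨⟨u, hu⟩, hub, -⟩ := S.reg b (l • b) S.ne.symm hlb
  refine ⟨u, hu, u⁻¹ * l, ⟨?_, ?_⟩, by group⟩
  · show (u⁻¹ * l) • a = a
    rw [mul_smul, hl, inv_smul_eq_iff, fix_a S hu]
  · show (u⁻¹ * l) • b = b
    rw [mul_smul, inv_smul_eq_iff]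
    exact hub.symm

theorem factor_unique {u u' h h' : G} (hu : u ∈ U) (hu' : u' ∈ U)
    (hh : h ∈ stabilizer G a ⊓ stabilizer G b) (hh' : h' ∈ stabilizer G a ⊓ stabilizer G b)
    (e : u * h = u' * h') : u = u' ∧ h = h' := by
  have h1 : u'⁻¹ * u = h' * h⁻¹ := by
    rw [inv_mul_eq_iff_eq_mul, ← mul_assoc, ← e, mul_inv_cancel_right]
  have h2 := inter S (U.mul_mem (U.inv_mem hu') hu) (h1 ▸ mul_mem hh' (inv_mem hh))
  have h3 : u' = u := inv_mul_eq_one.1 h2
  subst h3
  exact ⟨rfl, mul_left_cancel e⟩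

theorem centralizer_U {u : G} (hu : u ∈ U) (hu1 : u ≠ 1) :
    Subgroup.centralizer ({u} : Set G) = U := by
  refine le_antisymm (fun g hg => ?_) fun v hv =>
    Subgroup.mem_centralizer_singleton_iff.2 (S.comm v hv u hu)
  rw [Subgroup.mem_centralizer_singleton_iff] at hg
  have hga : g • a = a := fix_only S hu hu1 (by rw [← mul_smul, ← hg, mul_smul, fix_a S hu])
  obtain ⟨v, hv, h, hh, rfl⟩ := exists_factor S hga
  by_cases h1 : h = 1
  · subst h1; simpa using hv
  exfalso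
  have hhu : h * u = u * h := by
    have e2 : v * (h * u) = v * (u * h) := by
      rw [← mul_assoc, hg, ← mul_assoc, ← mul_assoc, S.comm v hv u hu]
    exact mul_left_cancel e2
  refine h1 (S.h3 h a b (u • b) S.ne ?_ (move S hu S.ne.symm).symm hh.1 hh.2 ?_)
  · exact fun e => hu1 (free S hu S.ne.symm e.symm)
  · rw [← mul_smul, hhu, mul_smul, show h • b = b from hh.2]

/-- `u h` is conjugate to `h` for `h ≠ 1` -/
theorem exists_conj [Finite G] {h : G} (hh : h ∈ stabilizer G a ⊓ stabilizer G b) (h1 : h ≠ 1)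
    {u : G} (hu : u ∈ U) : ∃ v ∈ U, v * h * v⁻¹ = u * h := by
  let F : U → U := fun v => ⟨v * (h * (v : G)⁻¹ * h⁻¹),
    U.mul_mem v.2 (S.conj h hh.1 _ (U.inv_mem v.2))⟩
  have hF : Function.Injective F := by
    rintro ⟨v, hv⟩ ⟨w, hw⟩ e
    have e' : v * (h * v⁻¹ * h⁻¹) = w * (h * w⁻¹ * h⁻¹) := congrArg Subtype.val e
    have e'' : v * h * v⁻¹ = w * h * w⁻¹ := by
      have := congrArg (fun x => x * h) e'
      simpa [mul_assoc] using this
    refine Subtype.ext ?_
    by_contra hne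
    have hx : w⁻¹ * v ∈ U := U.mul_mem (U.inv_mem hw) hv
    have hx1 : w⁻¹ * v ≠ 1 := fun e => hne (inv_mul_eq_one.1 e).symm
    have hc : h * (w⁻¹ * v) = (w⁻¹ * v) * h := by
      calc h * (w⁻¹ * v) = w⁻¹ * (w * h * w⁻¹) * v := by group
        _ = w⁻¹ * v * h := by rw [← e'']; group
    have hm : h ∈ U := centralizer_U S hx hx1 ▸ Subgroup.mem_centralizer_singleton_iff.2 hc
    exact h1 (inter S hm hh)
  obtain ⟨⟨v, hv⟩, he⟩ := (Finite.injective_iff_surjective.1 hF) ⟨u, hu⟩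
  refine ⟨v, hv, ?_⟩
  have e : v * (h * v⁻¹ * h⁻¹) = u := congrArg Subtype.val he
  rw [← e]
  group

/-- conjugation by the stabiliser acts semiregularly on the kernel -/
theorem conj_injective {g g' u : G} (hg : g ∈ stabilizer G a ⊓ stabilizer G b)
    (hg' : g' ∈ stabilizer G a ⊓ stabilizer G b) (hu : u ∈ U) (hu1 : u ≠ 1)
    (e : g * u * g⁻¹ = g' * u * g'⁻¹) : g = g' := by
  have hc : g'⁻¹ * g * u = u * (g'⁻¹ * g) := by
    calc g'⁻¹ * g * u = g'⁻¹ * (g * u * g⁻¹) * g := by group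
      _ = u * (g'⁻¹ * g) := by rw [e]; group
  have hm : g'⁻¹ * g ∈ U := centralizer_U S hu hu1 ▸ Subgroup.mem_centralizer_singleton_iff.2 hc
  exact (inv_mul_eq_one.1 (inter S hm (mul_mem (inv_mem hg') hg))).symm

theorem card_points [Finite Ω] : Nat.card Ω = Nat.card U + 1 := by
  classical
  letI := Fintype.ofFinite Ω
  have hb : Function.Bijective (fun u : U => (⟨(u : G) • b, move S u.2 S.ne.symm⟩ : {y : Ω // y ≠ a})) := by
    refine ⟨fun u v e => ?_, fun y => ?_⟩
    · exact (S.reg b ((u : G) • b) S.ne.symm (move S u.2 S.ne.symm)).unique rfl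
        (congrArg Subtype.val e).symm
    · obtain ⟨u, hu, -⟩ := S.reg b y S.ne.symm y.2
      exact ⟨u, Subtype.ext hu⟩
  have hpos : 0 < Fintype.card Ω := Fintype.card_pos_iff.2 ⟨a⟩
  rw [Nat.card_eq_of_bijective _ hb, Nat.card_eq_fintype_card, Nat.card_eq_fintype_card,
    Fintype.card_subtype_compl, Fintype.card_subtype_eq, Nat.sub_add_cancel hpos]

theorem card_stab [Finite G] :
    Nat.card (stabilizer G a) = Nat.card U * Nat.card ↥(stabilizer G a ⊓ stabilizer G b) := by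
  rw [← Nat.card_prod]
  refine (Nat.card_eq_of_bijective
    (fun p : U × ↥(stabilizer G a ⊓ stabilizer G b) =>
      (⟨(p.1 : G) * p.2, mul_mem (S.le p.1.2) p.2.2.1⟩ : stabilizer G a)) ⟨?_, ?_⟩).symm
  · rintro ⟨⟨u, hu⟩, ⟨h, hh⟩⟩ ⟨⟨u', hu'⟩, ⟨h', hh'⟩⟩ e
    obtain ⟨rfl, rfl⟩ := factor_unique S hu hu' hh hh' (congrArg Subtype.val e)
    rfl
  · rintro ⟨l, hl⟩
    obtain ⟨u, hu, h, hh, rfl⟩ := exists_factor S hl
    exact ⟨⟨⟨u, hu⟩, ⟨h, hh⟩⟩, rfl⟩

theorem card_group [Finite G] [Finite Ω] :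
    Nat.card G = (Nat.card U + 1) * Nat.card U * Nat.card ↥(stabilizer G a ⊓ stabilizer G b) := by
  haveI := isPretransitive_of_is_two_pretransitive (G := G) (α := Ω) (h2 := S.h2)
  rw [← (stabilizer G a).card_mul_index, index_stabilizer_of_transitive, card_points S, card_stab S]
  ring

end AbKernel
end H59
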